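import Mathlib
import Cfsg.Agent.StdG24.Mod6
import Cfsg.Agent.GTwoFour.MdlQ2
import Cfsg.Agent.McLLyComp.CoverMT
import Cfsg.Agent.GTwoFour.MdlPF
import Cfsg.Agent.StdG24.Cls6
import Cfsg.Agent.GTwoFour.OuterSyl
import Cfsg.Agent.GTwoFour.RedAut
import Cfsg.Agent.StdG24.Ax6

-- merged: Cfsg.Agent.OddHalf.D9.G24.Collect
section

/-!
# Collection with tails

A verified collector for a group `K` with a central element `z`, `z² = 1`, and elements `k i` such that
`k i * k i = V (T i i)`, `k l * k i = k i * k l * V (T i l)` for `i < l`, where `V (L, m)` is the product of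
the `k j`, `j ∈ L`, times `z^(parity of s over the bits of m)`. The signs `s` may be unknown: comparing two
collections of equal elements gives linear equations for `s`.
-/

set_option autoImplicit false
set_option linter.unusedVariables false

namespace Cfsg.Agent.OddHalf.D9.G24.Collect

/-! ### Parities -/

/-- parity of `s` over the bits below `M` of `m` -/
def dot (s : ℕ → Bool) : ℕ → ℕ → Bool
  | 0, _ => false
  | M + 1, m => xor (m.testBit M && s M) (dot s M m)

theorem dot_xor (s : ℕ → Bool) (M m m' : ℕ) : dot s M (m ^^^ m') = xor (dot s M m) (dot s M m') := by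
  induction M with
  | zero => rfl
  | succ M ih =>
    simp only [dot, ih, Nat.testBit_xor]
    cases m.testBit M <;> cases m'.testBit M <;> cases s M <;> cases dot s M m <;>
      cases dot s M m' <;> rfl

theorem dot_zero (s : ℕ → Bool) (M : ℕ) : dot s M 0 = false := by
  induction M with
  | zero => rfl
  | succ M ih => simp [dot, ih]

theorem dot_two_pow (s : ℕ → Bool) {M j : ℕ} (h : j < M) : dot s M (2 ^ j) = s j := by
  induction M with
  | zero => exact absurd h (Nat.not_lt_zero j)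
  | succ M ih =>
    simp only [dot, Nat.testBit_two_pow]
    by_cases hj : j = M
    · subst hj
      have h0 : ∀ N ≤ j, dot s N (2 ^ j) = false := by
        intro N
        induction N with
        | zero => intro _; rfl
        | succ N ihN =>
          intro hN
          simp only [dot, Nat.testBit_two_pow, ihN (by omega)]
          have : decide (j = N) = false := decide_eq_false (by omega)
          simp [this]
      simp [h0 j le_rfl]
    · have : decide (j = M) = false := decide_eq_false hj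
      rw [this, ih (by omega)]
      simp

/-- xor of the selected members of a list -/
def xorSel : List ℕ → ℕ → ℕ
  | [], _ => 0
  | a :: l, c => cond (c.testBit 0) (a ^^^ xorSel l (c / 2)) (xorSel l (c / 2))

theorem dot_xorSel (s : ℕ → Bool) (M : ℕ) {l : List ℕ} (h : ∀ a ∈ l, dot s M a = false) (c : ℕ) :
    dot s M (xorSel l c) = false := by
  induction l generalizing c with
  | nil => exact dot_zero s M
  | cons a l ih =>
    have h1 := ih (fun b hb => h b (List.mem_cons_of_mem _ hb)) (c / 2)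
    have h2 := h a List.mem_cons_self
    unfold xorSel
    cases c.testBit 0
    · exact h1
    · change dot s M (a ^^^ xorSel l (c / 2)) = false
      rw [dot_xor, h1, h2]; rfl

variable {K : Type*} [Group K]

/-- `z ^ b` -/
def zb (z : K) (b : Bool) : K := cond b z 1

theorem zb_xor {z : K} (hz : z * z = 1) (a b : Bool) : zb z (xor a b) = zb z a * zb z b := by
  cases a <;> cases b <;> simp [zb, hz]

theorem zb_comm {z : K} (hz : ∀ x, z * x = x * z) (a : Bool) (x : K) : zb z a * x = x * zb z a := by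
  cases a
  · simp [zb]
  · exact hz x

theorem zb_inj {z : K} (hz : z ≠ 1) {a b : Bool} (h : zb z a = zb z b) : a = b := by
  cases a <;> cases b
  · rfl
  · exact absurd h.symm hz
  · exact absurd h hz
  · rfl

/-- value of a word -/
def vl (k : ℕ → K) (L : List ℕ) : K := (L.map k).prod

@[simp] theorem vl_nil (k : ℕ → K) : vl k [] = 1 := rfl

@[simp] theorem vl_cons (k : ℕ → K) (j : ℕ) (L : List ℕ) : vl k (j :: L) = k j * vl k L := by
  simp [vl]

theorem vl_append (k : ℕ → K) (L L' : List ℕ) : vl k (L ++ L') = vl k L * vl k L' := by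
  simp [vl]

/-- value of a word with a mask -/
def V (z : K) (k : ℕ → K) (s : ℕ → Bool) (M : ℕ) (p : List ℕ × ℕ) : K := vl k p.1 * zb z (dot s M p.2)

/-- The relations of a collection system. -/
structure Sys (z : K) (k : ℕ → K) (s : ℕ → Bool) (M : ℕ) (T : ℕ → ℕ → List ℕ × ℕ) : Prop where
  zz : z * z = 1
  zc : ∀ x, z * x = x * z
  sq : ∀ i, k i * k i = V z k s M (T i i)
  cm : ∀ i l, i < l → k l * k i = k i * k l * V z k s M (T i l)

/-! ### The collector -/

section Coll

variable {α : Type}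

/-- all members of the list are bigger than `i` -/
def allGt (i : ℕ) (L : List ℕ) : Bool :=
  List.rec (motive := fun _ => Bool) true (fun a _ ih => cond (Nat.blt i a) ih false) L

theorem allGt_spec {i : ℕ} {L : List ℕ} (h : allGt i L = true) : ∀ a ∈ L, i < a := by
  induction L with
  | nil => intro a ha; exact absurd ha (by simp)
  | cons b L ih =>
    have h1 : allGt i (b :: L) = cond (Nat.blt i b) (allGt i L) false := rfl
    rw [h1] at h
    cases hb : Nat.blt i b with
    | false => rw [hb] at h; exact absurd h Bool.false_ne_true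
    | true =>
      rw [hb] at h
      intro a ha
      rcases List.mem_cons.1 ha with rfl | ha
      · rw [Nat.blt_eq] at hb; exact hb
      · exact ih h a ha

/-- insert the letters of a word -/
def words (g : List ℕ → ℕ → ℕ → (List ℕ → ℕ → α) → α) (ws : List ℕ) :
    List ℕ → ℕ → (List ℕ → ℕ → α) → α :=
  List.rec (motive := fun _ => List ℕ → ℕ → (List ℕ → ℕ → α) → α) (fun L m κ => κ L m)
    (fun w _ ih L m κ => g L w m (fun L' m' => ih L' m' κ)) ws

/-- insert the letters of a word, which passes the letter `i` -/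
def pass (g : List ℕ → ℕ → ℕ → (List ℕ → ℕ → α) → α) (T : ℕ → ℕ → List ℕ × ℕ) (i : ℕ)
    (ls : List ℕ) : List ℕ → ℕ → (List ℕ → ℕ → α) → α :=
  List.rec (motive := fun _ => List ℕ → ℕ → (List ℕ → ℕ → α) → α) (fun L m κ => κ L m)
    (fun l _ ih L m κ => g L l m (fun L1 m1 => words g (T i l).1 L1 (Nat.xor m1 (T i l).2)
      (fun L2 m2 => ih L2 m2 κ))) ls

/-- insert one letter on the right -/
def ins (T : ℕ → ℕ → List ℕ × ℕ) (f : ℕ) : List ℕ → ℕ → ℕ → (List ℕ → ℕ → α) → α :=
  Nat.rec (motive := fun _ => List ℕ → ℕ → ℕ → (List ℕ → ℕ → α) → α)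
    (fun L i m κ => κ (L ++ [i]) m)
    (fun _ g L i m => List.rec (motive := fun _ => (List ℕ → ℕ → α) → α)
      (fun κ => κ [i] m)
      (fun j L ih κ =>
        cond (Nat.blt j i) (ih (fun L' m' => κ (j :: L') m'))
          (cond (Nat.beq j i)
            (cond (allGt i L) (words g (T i i).1 [] (Nat.xor m (T i i).2)
              (fun L0 m0 => pass g T i L L0 m0 κ)) (κ (j :: L ++ [i]) m))
            (cond (allGt i (j :: L)) (pass g T i (j :: L) [i] m κ) (κ (j :: L ++ [i]) m)))) L) f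

variable {z : K} {k : ℕ → K} {s : ℕ → Bool} {M : ℕ} {T : ℕ → ℕ → List ℕ × ℕ}

/-- `g` inserts a letter -/
def Good (z : K) (k : ℕ → K) (s : ℕ → Bool) (M : ℕ) (g : List ℕ → ℕ → ℕ → (List ℕ → ℕ → α) → α) : Prop :=
  ∀ L i m κ, ∃ L' m', g L i m κ = κ L' m' ∧ V z k s M (L', m') = V z k s M (L, m) * k i

theorem V_mul (S : Sys z k s M T) (L : List ℕ) (m : ℕ) (x : K) :
    V z k s M (L, m) * x = vl k L * x * zb z (dot s M m) := by
  rw [V, mul_assoc, zb_comm S.zc, mul_assoc]

theorem V_xor (S : Sys z k s M T) (L : List ℕ) (m m' : ℕ) :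
    V z k s M (L, Nat.xor m m') = V z k s M (L, m) * zb z (dot s M m') := by
  have : dot s M (Nat.xor m m') = xor (dot s M m) (dot s M m') := dot_xor s M m m'
  rw [V, V, this, zb_xor S.zz, mul_assoc]

theorem words_spec {g : List ℕ → ℕ → ℕ → (List ℕ → ℕ → α) → α} (hg : Good z k s M g) (ws : List ℕ)
    (L : List ℕ) (m : ℕ) (κ : List ℕ → ℕ → α) :
    ∃ L' m', words g ws L m κ = κ L' m' ∧ V z k s M (L', m') = V z k s M (L, m) * vl k ws := by
  induction ws generalizing L m with
  | nil => exact ⟨L, m, rfl, by rw [vl_nil, mul_one]⟩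
  | cons w ws ih =>
    obtain ⟨L1, m1, h1, h2⟩ := hg L w m (fun L' m' => words g ws L' m' κ)
    obtain ⟨L2, m2, h3, h4⟩ := ih L1 m1
    refine ⟨L2, m2, h1.trans h3, ?_⟩
    rw [h4, h2, vl_cons, mul_assoc]

theorem pass_spec (S : Sys z k s M T) {g : List ℕ → ℕ → ℕ → (List ℕ → ℕ → α) → α}
    (hg : Good z k s M g) (i : ℕ) (ls : List ℕ) (hls : ∀ a ∈ ls, i < a)
    (L : List ℕ) (m : ℕ) (κ : List ℕ → ℕ → α) (x : K) (hx : V z k s M (L, m) = x * k i) :
    ∃ L' m', pass g T i ls L m κ = κ L' m' ∧ V z k s M (L', m') = x * (vl k ls * k i) := by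
  induction ls generalizing L m x with
  | nil => exact ⟨L, m, rfl, by rw [vl_nil, one_mul]; exact hx⟩
  | cons l ls ih =>
    obtain ⟨L1, m1, h1, h2⟩ := hg L l m (fun L1 m1 => words g (T i l).1 L1 (Nat.xor m1 (T i l).2)
      (fun L2 m2 => pass g T i ls L2 m2 κ))
    obtain ⟨L2, m2, h3, h4⟩ := words_spec hg (T i l).1 L1 (Nat.xor m1 (T i l).2)
      (fun L2 m2 => pass g T i ls L2 m2 κ)
    have h5 : V z k s M (L2, m2) = x * k l * k i := by
      rw [h4, V_xor S, h2, hx, mul_assoc x (k l), S.cm i l (hls l List.mem_cons_self), V]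
      simp only [mul_assoc]
      rw [zb_comm S.zc]
    obtain ⟨L3, m3, h6, h7⟩ := ih (fun a ha => hls a (List.mem_cons_of_mem _ ha)) L2 m2 (x * k l) h5
    refine ⟨L3, m3, h1.trans (h3.trans h6), ?_⟩
    rw [h7, vl_cons]
    simp only [mul_assoc]

theorem ins_good (S : Sys z k s M T) (f : ℕ) : Good z k s M (ins (α := α) T f) := by
  induction f with
  | zero =>
    intro L i m κ
    refine ⟨L ++ [i], m, rfl, ?_⟩
    rw [V_mul S, V, vl_append]
    simp
  | succ f ih =>
    intro L i m κ
    induction L generalizing κ with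
    | nil =>
      refine ⟨[i], m, rfl, ?_⟩
      rw [V_mul S, V]
      simp
    | cons j L ihL =>
      have happ : ∃ L' m', κ (j :: L ++ [i]) m = κ L' m' ∧
          V z k s M (L', m') = V z k s M (j :: L, m) * k i := by
        refine ⟨j :: L ++ [i], m, rfl, ?_⟩
        rw [V_mul S, V, vl_append]
        simp
      have hdef : ins T (f + 1) (j :: L) i m κ = cond (Nat.blt j i)
          (ins T (f + 1) L i m (fun L' m' => κ (j :: L') m'))
          (cond (Nat.beq j i)
            (cond (allGt i L) (words (ins T f) (T i i).1 [] (Nat.xor m (T i i).2)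
              (fun L0 m0 => pass (ins T f) T i L L0 m0 κ)) (κ (j :: L ++ [i]) m))
            (cond (allGt i (j :: L)) (pass (ins T f) T i (j :: L) [i] m κ)
              (κ (j :: L ++ [i]) m))) := rfl
      rw [hdef]
      cases hb : Nat.blt j i with
      | true =>
        rw [cond_true]
        obtain ⟨L', m', h1, h2⟩ := ihL (fun L' m' => κ (j :: L') m')
        refine ⟨j :: L', m', h1, ?_⟩
        have h3 : V z k s M (j :: L', m') = k j * V z k s M (L', m') := by
          rw [V, V, vl_cons, mul_assoc]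
        have h4 : V z k s M (j :: L, m) = k j * V z k s M (L, m) := by
          rw [V, V, vl_cons, mul_assoc]
        rw [h3, h2, h4, mul_assoc]
      | false =>
        rw [cond_false]
        cases he : Nat.beq j i with
        | true =>
          rw [cond_true]
          have hji : j = i := by rwa [Nat.beq_eq] at he
          cases ha : allGt i L with
          | false => rw [cond_false]; exact happ
          | true =>
            rw [cond_true]
            obtain ⟨L0, m0, h1, h2⟩ := words_spec ih (T i i).1 [] (Nat.xor m (T i i).2)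
              (fun L0 m0 => pass (ins T f) T i L L0 m0 κ)
            have h3 : V z k s M (L0, m0) = zb z (dot s M m) * k i * k i := by
              rw [h2, V_xor S, mul_assoc _ (k i), S.sq i, V, V, vl_nil, one_mul]
              simp only [mul_assoc]
              rw [zb_comm S.zc (dot s M (T i i).2)]
            obtain ⟨L1, m1, h4, h5⟩ := pass_spec S ih i L (allGt_spec ha) L0 m0 κ _ h3
            refine ⟨L1, m1, h1.trans h4, ?_⟩
            rw [h5, V_mul S, vl_cons, hji, mul_assoc (zb z _), zb_comm S.zc]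
            simp only [mul_assoc]
        | false =>
          rw [cond_false]
          cases ha : allGt i (j :: L) with
          | false => rw [cond_false]; exact happ
          | true =>
            rw [cond_true]
            obtain ⟨L1, m1, h4, h5⟩ := pass_spec S ih i (j :: L) (allGt_spec ha) [i] m κ
              (zb z (dot s M m)) (by rw [V, vl_cons, vl_nil, mul_one, zb_comm S.zc])
            refine ⟨L1, m1, h4, ?_⟩
            rw [h5, V_mul S, zb_comm S.zc]

/-! ### Comparing two collections -/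

/-- equality of words -/
def eqF (C : List ℕ) : List ℕ → Bool :=
  List.rec (motive := fun _ => List ℕ → Bool) (fun D => List.rec true (fun _ _ _ => false) D)
    (fun c _ ih D => List.rec false (fun d ds _ => cond (Nat.beq c d) (ih ds) false) D) C

theorem eqF_spec {C D : List ℕ} (h : eqF C D = true) : C = D := by
  induction C generalizing D with
  | nil =>
    cases D with
    | nil => rfl
    | cons d ds => exact absurd (show false = true from h) (by decide)
  | cons c cs ih =>
    cases D with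
    | nil => exact absurd (show false = true from h) (by decide)
    | cons d ds =>
      have h1 : cond (Nat.beq c d) (eqF cs ds) false = true := h
      cases hb : Nat.beq c d with
      | false => rw [hb] at h1; exact absurd h1 Bool.false_ne_true
      | true =>
        rw [hb] at h1
        rw [Nat.beq_eq] at hb
        rw [hb, ih h1]

/-- collect a list of words with masks -/
def coll (T : ℕ → ℕ → List ℕ × ℕ) (f : ℕ) (ps : List (List ℕ × ℕ)) :
    List ℕ → ℕ → (List ℕ → ℕ → α) → α :=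
  List.rec (motive := fun _ => List ℕ → ℕ → (List ℕ → ℕ → α) → α) (fun L m κ => κ L m)
    (fun p _ ih L m κ => words (ins T f) p.1 L (Nat.xor m p.2) (fun L' m' => ih L' m' κ)) ps

/-- value of a list of words with masks -/
def VV (z : K) (k : ℕ → K) (s : ℕ → Bool) (M : ℕ) (ps : List (List ℕ × ℕ)) : K :=
  (ps.map (V z k s M)).prod

@[simp] theorem VV_nil : VV z k s M [] = 1 := rfl

@[simp] theorem VV_cons (p : List ℕ × ℕ) (ps : List (List ℕ × ℕ)) :
    VV z k s M (p :: ps) = V z k s M p * VV z k s M ps := by simp [VV]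

theorem VV_append (ps qs : List (List ℕ × ℕ)) :
    VV z k s M (ps ++ qs) = VV z k s M ps * VV z k s M qs := by simp [VV]

theorem coll_spec (S : Sys z k s M T) (f : ℕ) (ps : List (List ℕ × ℕ)) (L : List ℕ) (m : ℕ)
    (κ : List ℕ → ℕ → α) :
    ∃ L' m', coll T f ps L m κ = κ L' m' ∧ V z k s M (L', m') = V z k s M (L, m) * VV z k s M ps := by
  induction ps generalizing L m with
  | nil => exact ⟨L, m, rfl, by rw [VV_nil, mul_one]⟩
  | cons p ps ih =>
    obtain ⟨L1, m1, h1, h2⟩ := words_spec (ins_good S f) p.1 L (Nat.xor m p.2)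
      (fun L' m' => coll T f ps L' m' κ)
    obtain ⟨L2, m2, h3, h4⟩ := ih L1 m1
    refine ⟨L2, m2, h1.trans h3, ?_⟩
    rw [h4, h2, V_xor S, VV_cons, mul_assoc (V z k s M (L, m)), zb_comm S.zc]
    simp only [V, mul_assoc]

/-- the two collections agree, and their masks differ by `e` -/
def chk (T : ℕ → ℕ → List ℕ × ℕ) (f : ℕ) (ps qs : List (List ℕ × ℕ)) (e : ℕ) : Bool :=
  coll T f ps [] 0 fun L m => coll T f qs [] 0 fun L' m' =>
    cond (eqF L L') (Nat.beq (Nat.xor m m') e) false

theorem chk_spec (S : Sys z k s M T) {f : ℕ} {ps qs : List (List ℕ × ℕ)} {e : ℕ}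
    (h : chk T f ps qs e = true) : VV z k s M ps = VV z k s M qs * zb z (dot s M e) := by
  obtain ⟨L, m, h1, h2⟩ := coll_spec S f ps [] 0 (fun L m => coll T f qs [] 0 fun L' m' =>
    cond (eqF L L') (Nat.beq (Nat.xor m m') e) false)
  obtain ⟨L', m', h3, h4⟩ := coll_spec S f qs [] 0 (fun L' m' =>
    cond (eqF L L') (Nat.beq (Nat.xor m m') e) false)
  unfold chk at h
  rw [h1, h3] at h
  have h0 : V z k s M ([], 0) = 1 := by rw [V, vl_nil, dot_zero]; simp [zb]
  rw [h0, one_mul] at h2 h4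
  cases he : eqF L L' with
  | false => rw [he] at h; exact absurd h Bool.false_ne_true
  | true =>
    rw [he, cond_true, Nat.beq_eq] at h
    have hL := eqF_spec he
    have hm : m = Nat.xor m' e := by
      rw [← h]
      change m = m' ^^^ (m ^^^ m')
      rw [Nat.xor_comm m m', ← Nat.xor_assoc, Nat.xor_self, Nat.zero_xor]
    rw [← h2, ← h4, hL, hm, V_xor S]

theorem dot_of_chk (S : Sys z k s M T) (hz1 : z ≠ 1) {f : ℕ} {ps qs : List (List ℕ × ℕ)} {e : ℕ}
    (h : chk T f ps qs e = true) (heq : VV z k s M ps = VV z k s M qs) : dot s M e = false := by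
  have h1 := chk_spec S h
  rw [heq] at h1
  have h2 : zb z (dot s M e) = zb z false := by
    have h3 := mul_eq_left.1 h1.symm
    rw [h3]; rfl
  exact zb_inj hz1 h2

end Coll

end Cfsg.Agent.OddHalf.D9.G24.Collect

end

-- merged: Cfsg.Agent.OddHalf.D9.G24.Tab
section

/-!
# The Sylow 2-subgroup of a double cover of `G₂(4)`: tables and kernel checks

Generators `0, ..., 11` = `x_a(1), x_a(w), x_b(1), x_b(w), x_{a+b}(1), ..., x_{3a+2b}(w)`
(`a` short, `b` long), in the model of `StdG24.Mod6`.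
-/

set_option autoImplicit false
set_option linter.unusedVariables false

namespace Cfsg.Agent.OddHalf.D9.G24.Tab

open Cfsg.Agent.StdG24.Mod6 Cfsg.Agent.OddHalf.D9.G24.Collect

/-- entry of a list -/
def nth {β : Type} (d : β) (l : List β) : ℕ → β :=
  List.rec (motive := fun _ => ℕ → β) (fun _ => d)
    (fun a _ ih n => Nat.rec (motive := fun _ => β) a (fun n' _ => ih n') n) l

/-- the root of a generator -/
def rt (i : ℕ) : Fin 12 := nth 0 [7, 7, 6, 6, 8, 8, 9, 9, 10, 10, 11, 11] i

/-- the parameter of a generator -/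
def tt (i : ℕ) : Fin 3 := nth 0 [0, 1, 0, 1, 0, 1, 0, 1, 0, 1, 0, 1] i

/-- word in the root elements -/
def gw (L : List ℕ) : Wd := L.map fun i => (rt i, tt i)

/-- the commutator words -/
def WT : List (List (List ℕ)) := [
  [[], [], [4, 6, 8, 10], [5, 7, 9, 10, 11], [8, 10], [9, 10, 11], [8], [9], [], [], [], []],
  [[], [], [5, 6, 7, 8, 10], [4, 5, 6, 9, 10, 11], [8, 9, 11], [8, 10], [9], [8, 9], [], [], [], []],
  [[], [], [], [], [], [], [], [], [10], [11], [], []],
  [[], [], [], [], [], [], [], [], [11], [10, 11], [], []],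
  [[], [], [], [], [], [], [10], [11], [], [], [], []],
  [[], [], [], [], [], [], [11], [10, 11], [], [], [], []],
  [[], [], [], [], [], [], [], [], [], [], [], []],
  [[], [], [], [], [], [], [], [], [], [], [], []],
  [[], [], [], [], [], [], [], [], [], [], [], []],
  [[], [], [], [], [], [], [], [], [], [], [], []],
  [[], [], [], [], [], [], [], [], [], [], [], []],
  [[], [], [], [], [], [], [], [], [], [], [], []]]
/-- the relations with a sign -/
def S0 : List (List ℕ) := [
  [1, 1, 0, 0, 0, 1, 0, 0, 0, 0, 0, 0],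
  [0, 1, 0, 0, 1, 0, 0, 0, 0, 0, 0, 0],
  [0, 0, 0, 0, 0, 0, 0, 0, 0, 0, 0, 0],
  [0, 0, 0, 0, 0, 0, 0, 0, 0, 1, 0, 0],
  [0, 0, 0, 0, 1, 1, 0, 1, 0, 0, 0, 0],
  [0, 0, 0, 0, 0, 1, 1, 1, 0, 0, 0, 0],
  [0, 0, 0, 0, 0, 0, 1, 1, 0, 0, 0, 0],
  [0, 0, 0, 0, 0, 0, 0, 1, 0, 0, 0, 0],
  [0, 0, 0, 0, 0, 0, 0, 0, 0, 0, 0, 0],
  [0, 0, 0, 0, 0, 0, 0, 0, 0, 0, 0, 0],
  [0, 0, 0, 0, 0, 0, 0, 0, 0, 0, 0, 0],
  [0, 0, 0, 0, 0, 0, 0, 0, 0, 0, 0, 0]]
/-- the masks of the change of lifts -/
def AM : List ℕ := [0, 0, 0, 0, 12884918412, 8589967556, 8589951176, 4295000140, 64, 128, 4294967296, 8589934592]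
/-- images under the two reflections -/
def IM : List (List (List ℕ)) := [
  [[], [], [8], [9], [6], [7], [4], [5], [2], [3], [10], [11]],
  [[4], [5], [], [], [0], [1], [6], [7], [10], [11], [8], [9]]]
/-- associativity equations `(i, j, k, mask)` -/
def EQT : List (ℕ × ℕ × ℕ × ℕ) := [
  (0, 6, 6, 20282410812577490038576425992192),
  (0, 7, 7, 166153509376634798396018081728036864),
  (1, 6, 6, 166153499475532335752205140884455424),
  (2, 8, 8, 1361129548813392268460180125516077989888),
  (2, 9, 9, 11150373263879309463225795588227710893162496),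
  (3, 8, 8, 11150372599427570847597072499715758763278336),
  (4, 6, 6, 1361129467683758689556776888243771670528),
  (4, 7, 7, 11150372599265351184849116268492977524965376),
  (5, 6, 6, 11150372599265311580439265693241214150639616),
  (0, 4, 4, 1361129569095801872112210837433518915584),
  (1, 5, 5, 1361129569095801873587590075360093405184),
  (1, 7, 7, 166214361557205910548811023078391808),
  (3, 9, 9, 11154456984589359671016324309468657181786112),
  (5, 7, 7, 11154455987668422253451305329866557129490432),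
  (0, 0, 6, 20282409603651670423947251286272),
  (0, 0, 7, 166153499473114484112975882535043584),
  (1, 1, 6, 166153499473114484112975882537140224),
  (2, 2, 8, 1361129467683753853853498429744252715008),
  (2, 2, 9, 11150372599265311570767859136324215112728576),
  (3, 3, 8, 11150372599265311570767859136464918241345536),
  (4, 4, 6, 1361129467683753853853786660103224557568),
  (4, 4, 7, 11150372599265311570767859712784933056413696),
  (5, 5, 6, 11150372599265311570770220319565615575597056),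
  (0, 6, 9, 40564819207303340847894502572032),
  (0, 6, 10, 81129638414606681695789005144064),
  (0, 6, 11, 162259276829213363391578010288128),
  (0, 7, 10, 332306998946228968225951765070086144),
  (2, 5, 8, 1180591620717411303424),
  (3, 4, 6, 70368744177664),
  (0, 5, 5, 11154457150742859144134940493117050656391168),
  (1, 4, 4, 11150373430255915441980448868500547609559040),
  (0, 6, 7, 40569773385312121598252448481280),
  (0, 1, 6, 40564819207303340847894503621120),
  (0, 0, 4, 1361129569095801872111850549463329277184),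
  (1, 1, 5, 1361129569095801872111850549463334518784),
  (0, 2, 2, 20282415950512317976365410287616),
  (0, 3, 3, 166153571273637537428540208206315520),
  (1, 2, 2, 11153094858221028343793216079248780976717824),
  (0, 2, 7, 11150373596226897990485168168274187373248512),
  (1, 3, 3, 2722425088866998051265783133693448028160),
  (1, 2, 5, 11153094858281853283941914860733572847763456),
  (0, 0, 2, 81129643552541797863931324138832),
  (0, 0, 3, 996921058735693185484982288201551520),
  (1, 1, 2, 11153095024475944815478370457871562374512640)]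
/-- equations from the reflections `(g, i, j, mask)` -/
def EQA : List (ℕ × ℕ × ℕ × ℕ) := [
  (0, 2, 2, 20282409603651670423947318394880),
  (0, 2, 3, 40564819207303340847894636789760),
  (0, 2, 4, 1208925819614629443141632),
  (0, 2, 5, 4951760157141521100133367808),
  (0, 2, 6, 72057595111669760),
  (0, 2, 7, 295147905181500309504),
  (0, 2, 8, 22835964444424825780686429364690351909196791808),
  (0, 2, 9, 45683076539189981505435918881520186145776861184),
  (0, 3, 3, 166153499473114484112976432290856960),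
  (0, 3, 4, 2417851639230357861040128),
  (0, 3, 5, 9903520314283044398216249344),
  (0, 3, 6, 144119586122366976),
  (0, 3, 7, 590295819154798673920),
  (0, 3, 9, 68519043705873742653630055953207379908343365632),
  (0, 4, 4, 302231459407256921047040),
  (0, 4, 5, 604462918814513842094080),
  (0, 4, 7, 45683076539189981505435918955343173636858052608),
  (0, 5, 5, 2475880115464248697217351680),
  (1, 0, 0, 4503599627370497),
  (1, 0, 1, 9007199254740994),
  (1, 0, 4, 116920130987833362944260950074807810426148927569920),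
  (1, 0, 5, 327376377912495019157283675221745656974833931583520),
  (1, 0, 6, 23384026197294446691258957323460546328893430169664),
  (1, 0, 7, 46768052394588893382517914646921092657786860339328),
  (1, 0, 8, 288230376151712000),
  (1, 0, 11, 144115188075857920),
  (1, 1, 1, 36893488147419111424),
  (1, 1, 6, 46768052394588893382517914646994843605284679843840),
  (1, 1, 7, 70152078591883340073776871970529158896074439000064),
  (1, 1, 11, 590295810358714040320),
  (1, 4, 7, 187072209578355573530071658587684262544756384465024)]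
/-- certificates -/
def CERT : List (List ℕ) := [
  [0, 312154483771882633938, 0, 0, 295148259265064616448, 891642784509386203889, 0, 0, 295147905179370651656, 295147905181518186510, 8589950984, 885443715541290207806],
  [0, 1186185866301641069419, 0, 0, 20057521435643429825183, 7157625715116429418200, 2510055356617172455448, 5240462062880006621379, 295147905185821542414, 295147905181518219278, 23630743566, 9739880870921517422638],
  [0, 0, 295147922771556712456, 35184380477440, 295147975548114845705, 295148045916867414026, 295148186654329553416, 295148468129458308096, 0, 0, 16908296, 33816608],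
  [0, 0, 0, 295152408781145524238, 295156912380772894730, 295165919580027635724, 295183933979603520062, 295219962776264923182, 147492887880273944, 301437041806073819353, 268435456, 34078752],
  [0, 0, 0, 0, 4611686018427387904, 302931111735027858130, 295436487433603137608, 7206746079348392012, 295147905179352842760, 295147905182584556094, 17825800, 35651616],
  [0, 0, 0, 0, 0, 5594245584229765995, 8504908671887609940, 8504907572300613831, 295147905179504886784, 295147905182226995246, 134217728, 37748768],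
  [0, 0, 0, 0, 0, 0, 4899916394579099648, 302354650982724434642, 295147905179370668041, 295147905181518153738, 16777288, 33554720],
  [0, 0, 0, 0, 0, 0, 0, 7900088593443459947, 295147905179379058698, 295147905181518153740, 67121296, 33554592],
  [0, 0, 0, 0, 0, 0, 0, 0, 295147905179370668040, 8388608, 16777216, 33554432],
  [0, 0, 0, 0, 0, 0, 0, 0, 0, 295147905181518153742, 67108864, 33554480],
  [0, 0, 0, 0, 0, 0, 0, 0, 0, 0, 16777224, 83890200],
  [0, 0, 0, 0, 0, 0, 0, 0, 0, 0, 0, 33554464]]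

/-- the commutator words -/
def W (i j : ℕ) : List ℕ := nth [] (nth [] WT i) j

/-- table of relations with unknown signs: the sign of the relation `(i, j)`, `i ≤ j`, has the number `12 i + j` -/
def T1 (i j : ℕ) : List ℕ × ℕ := (W i j, cond (Nat.blt j 12) (2 ^ (12 * i + j)) 0)

/-- the sign in the final table (variable `0`) -/
def s0 (i j : ℕ) : ℕ := nth 0 (nth [] S0 i) j

/-- the final table -/
def T0 (i j : ℕ) : List ℕ × ℕ := (W i j, s0 i j)

/-- image of the generator `i` under the reflection `g` -/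
def im (g i : ℕ) : List ℕ × ℕ := (nth [] (nth [] IM g) i, 2 ^ (144 + 12 * g + i))

/-- domains of the reflections -/
def dom (g : ℕ) : List ℕ := nth [] [[2, 3, 4, 5, 6, 7, 8, 9, 10, 11], [0, 1, 4, 5, 6, 7, 8, 9, 10, 11]] g

/-- the words of the reflections -/
def nw (g : ℕ) : Wd := nth [] [[(7, 0), (4, 0), (7, 0)], [(6, 0), (5, 0), (6, 0)]] g

/-! ### Kernel checks in `G₂(4)` -/

theorem W_cm : ∀ i < 12, ∀ j < 12, i < j → cw (gw [j, i]) = cw (gw ([i, j] ++ W i j)) := by
  decide +kernel

theorem W_sq : ∀ i < 12, cw (gw [i, i]) = idC := by decide +kernel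

theorem W_diag : ∀ i, W i i = [] := by
  intro i
  by_cases h : i < 12
  · revert i; decide +kernel
  · obtain ⟨n, rfl⟩ := Nat.exists_eq_add_of_le (Nat.not_lt.1 h)
    have h1 : nth [] WT (12 + n) = [] := by
      rw [Nat.add_comm]; rfl
    rw [W, h1]; rfl

theorem W_ge : ∀ i j, 12 ≤ j → W i j = [] := by
  intro i j hj
  obtain ⟨n, rfl⟩ := Nat.exists_eq_add_of_le hj
  rw [Nat.add_comm]
  by_cases h : i < 12
  · interval_cases i <;> rfl
  · obtain ⟨m, rfl⟩ := Nat.exists_eq_add_of_le (Nat.not_lt.1 h)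
    have h1 : nth [] WT (12 + m) = [] := by
      rw [Nat.add_comm]; rfl
    rw [W, h1]; rfl

theorem W_lt : ∀ i < 12, ∀ j < 12, ∀ l ∈ W i j, l < 12 := by decide +kernel

theorem W_dom : ∀ g < 2, ∀ i ∈ dom g, ∀ j ∈ dom g, i < j → ∀ l ∈ W i j, l ∈ dom g := by decide +kernel

theorem dom_lt : ∀ g < 2, ∀ i ∈ dom g, i < 12 := by decide +kernel

theorem im_check : ∀ g < 2, ∀ i ∈ dom g, cw (nw g ++ gw [i] ++ (nw g).reverse) = cw (gw (im g i).1) := by
  decide +kernel

theorem im_lt : ∀ g < 2, ∀ i ∈ dom g, ∀ l ∈ (im g i).1, l < 12 := by decide +kernel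

/-! ### Kernel checks of the equations -/

/-- check of an associativity equation -/
def chkT (e : ℕ × ℕ × ℕ × ℕ) : Bool :=
  cond (Nat.blt e.1 e.2.1)
    (chk T1 12 [([e.2.2.1, e.2.1, e.1], 0)] [([e.2.2.1, e.1, e.2.1], 0), T1 e.1 e.2.1] e.2.2.2)
    (cond (Nat.beq e.1 e.2.1)
      (chk T1 12 [([e.2.2.1, e.2.1, e.1], 0)] [([e.2.2.1], 0), T1 e.1 e.2.1] e.2.2.2) false)

/-- check of an equation from a reflection -/
def chkA (e : ℕ × ℕ × ℕ × ℕ) : Bool :=
  cond (Nat.blt e.2.1 e.2.2.1)
    (chk T1 12 [im e.1 e.2.2.1, im e.1 e.2.1]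
      ([im e.1 e.2.1, im e.1 e.2.2.1] ++ (W e.2.1 e.2.2.1).map (im e.1) ++
        [([], 2 ^ (12 * e.2.1 + e.2.2.1))]) e.2.2.2)
    (cond (Nat.beq e.2.1 e.2.2.1)
      (chk T1 12 [im e.1 e.2.1, im e.1 e.2.1] [([], 2 ^ (13 * e.2.1))] e.2.2.2) false)

theorem EQT_ok : ∀ e ∈ EQT, chkT e = true := by decide +kernel

theorem EQT_lt : ∀ e ∈ EQT, e.1 < 12 ∧ e.2.1 < 12 ∧ e.2.2.1 < 12 := by decide +kernel

theorem EQA_ok : ∀ e ∈ EQA, chkA e = true := by decide +kernel

theorem EQA_dom : ∀ e ∈ EQA, e.1 < 2 ∧ e.2.1 ∈ dom e.1 ∧ e.2.2.1 ∈ dom e.1 := by decide +kernel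

/-- all the equations -/
def EQ : List ℕ := EQT.map (fun e => e.2.2.2) ++ EQA.map (fun e => e.2.2.2)

/-- mask of the change of lifts of a word -/
def am (L : List ℕ) : ℕ := L.foldr (fun l m => nth 0 AM l ^^^ m) 0

theorem cert_ok : ∀ i < 12, ∀ j < 12, i ≤ j →
    xorSel EQ (nth 0 (nth [] CERT i) j) = 2 ^ (12 * i + j) ^^^ am (W i j) ^^^ s0 i j := by decide +kernel

theorem s0_le : ∀ i < 12, ∀ j < 12, s0 i j = 0 ∨ s0 i j = 1 := by decide +kernel

end Cfsg.Agent.OddHalf.D9.G24.Tab

end

-- merged: Cfsg.Agent.OddHalf.D9.G24.Cover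
section

/-!
# Double covers of `G₂(4)`: the table of the Sylow 2-subgroup

For every central extension `π : K → L` (`L = G₂(4)`, the model of `StdG24.Mod6`) with kernel `{1, z}` there
are lifts `k i` of the twelve generators of the Sylow 2-subgroup with the multiplication table `T0`,
with one parameter `ε`.
-/

set_option autoImplicit false
set_option linter.unusedVariables false

namespace Cfsg.Agent.OddHalf.D9.G24.Cover

open Cfsg.Agent.StdG24.Mod6 Cfsg.Agent.OddHalf.D9.G24.Collect Cfsg.Agent.OddHalf.D9.G24.Tab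

variable {K : Type*} [Group K] {z : K} {π : K →* L}

/-- a central extension of `G₂(4)` by a group `{1, z}` of order 2 -/
structure Cov (z : K) (π : K →* L) : Prop where
  surj : Function.Surjective π
  pz : π z = 1
  ker : ∀ x, π x = 1 → x = 1 ∨ x = z
  z1 : z ≠ 1
  zc : ∀ x, z * x = x * z

namespace Cov

variable (C : Cov z π)

include C

theorem zz : z * z = 1 := by
  rcases C.ker (z * z) (by rw [map_mul, C.pz, mul_one]) with h | h
  · exact h
  · exact absurd (mul_eq_left.1 h) C.z1

theorem eq_or {x y : K} (h : π x = π y) : x = y ∨ x = y * z := by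
  rcases C.ker (y⁻¹ * x) (by rw [map_mul, map_inv, h, inv_mul_cancel]) with h1 | h1
  · left; exact (inv_mul_eq_one.1 h1).symm
  · right; rw [← h1, mul_inv_cancel_left]

end Cov

/-- the sign of `x` against `y` -/
noncomputable def sg (x y : K) : Bool := by
  classical
  exact decide (x ≠ y)

theorem eq_sg (C : Cov z π) {x y : K} (h : π x = π y) : x = y * zb z (sg x y) := by
  classical
  by_cases hxy : x = y
  · have : sg x y = false := by rw [sg]; exact decide_eq_false (fun h => h hxy)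
    rw [this, hxy]; simp [zb]
  · have : sg x y = true := by rw [sg]; exact decide_eq_true hxy
    rw [this]
    rcases C.eq_or h with h1 | h1
    · exact absurd h1 hxy
    · exact h1

/-- the root element of a generator -/
def gen (i : ℕ) : L := ⟨gx (rt i) (tt i), gx_mem _ _⟩

theorem gw_append (A B : List ℕ) : gw (A ++ B) = gw A ++ gw B := by simp [gw]

/-- lifts of the generators -/
structure Lifts (π : K →* L) (k : ℕ → K) : Prop where
  lift : ∀ i < 12, π (k i) = gen i
  one : ∀ i, 12 ≤ i → k i = 1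

theorem Lifts.coe_vl {k : ℕ → K} (h : Lifts π k) {A : List ℕ} (hA : ∀ l ∈ A, l < 12) :
    (π (vl k A) : GL6) = ev (gw A) := by
  induction A with
  | nil => simp [gw, ev_nil]
  | cons a A ih =>
    rw [vl_cons, map_mul, Subgroup.coe_mul, ih (fun l hl => hA l (List.mem_cons_of_mem _ hl)),
      h.lift a (hA a List.mem_cons_self)]
    rfl

theorem exists_lifts (C : Cov z π) : ∃ k : ℕ → K, Lifts π k := by
  classical
  refine ⟨fun i => if i < 12 then (C.surj (gen i)).choose else 1, ?_, ?_⟩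
  · intro i hi
    simp only [if_pos hi]
    exact (C.surj (gen i)).choose_spec
  · intro i hi
    simp only [if_neg (Nat.not_lt.2 hi)]

/-- the reflections in the model -/
def nL (g : ℕ) : L := ⟨ev (nw g), ev_mem _⟩

/-- the unknown signs -/
noncomputable def sgn (k : ℕ → K) (n : ℕ → K) (v : ℕ) : Bool :=
  if v < 144 then
    if v / 12 = v % 12 then sg (k (v / 12) * k (v / 12)) 1
    else sg (k (v % 12) * k (v / 12)) (k (v / 12) * k (v % 12) * vl k (W (v / 12) (v % 12)))
  else
    sg (n ((v - 144) / 12) * k ((v - 144) % 12) * (n ((v - 144) / 12))⁻¹)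
      (vl k (im ((v - 144) / 12) ((v - 144) % 12)).1)

theorem blt_true {a b : ℕ} (h : a < b) : Nat.blt a b = true := by rw [Nat.blt_eq]; exact h

theorem two_pow_lt {i j : ℕ} (hi : i < 12) (hj : j < 12) : 12 * i + j < 192 := by omega

theorem sys1 (C : Cov z π) {k : ℕ → K} (h : Lifts π k) (n : ℕ → K) :
    Sys z k (sgn k n) 192 T1 where
  zz := C.zz
  zc := C.zc
  sq := by
    intro i
    rw [V]
    by_cases hi : i < 12
    · have h1 : (T1 i i).2 = 2 ^ (12 * i + i) := by
        change cond (Nat.blt i 12) (2 ^ (12 * i + i)) 0 = _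
        rw [blt_true hi]; rfl
      have h2 : (T1 i i).1 = [] := W_diag i
      rw [h1, h2, vl_nil, one_mul, dot_two_pow _ (two_pow_lt hi hi)]
      have h3 : sgn k n (12 * i + i) = sg (k i * k i) 1 := by
        unfold sgn
        rw [if_pos (by omega), if_pos (by omega)]
        have : (12 * i + i) / 12 = i := by omega
        rw [this]
      rw [h3]
      have h4 := eq_sg C (x := k i * k i) (y := 1) (by
        rw [map_mul, map_one, h.lift i hi]
        apply Subtype.ext
        exact gx_sq _ _)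
      rwa [one_mul] at h4
    · have h1 : (T1 i i).2 = 0 := by
        change cond (Nat.blt i 12) (2 ^ (12 * i + i)) 0 = _
        have : Nat.blt i 12 = false := by
          rw [← Bool.not_eq_true, Nat.blt_eq]; exact hi
        rw [this]; rfl
      have h2 : (T1 i i).1 = [] := W_diag i
      rw [h1, h2, h.one i (Nat.not_lt.1 hi), dot_zero]
      simp [zb]
  cm := by
    intro i l hil
    rw [V]
    by_cases hl : l < 12
    · have hi : i < 12 := hil.trans hl
      have h1 : (T1 i l).2 = 2 ^ (12 * i + l) := by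
        change cond (Nat.blt l 12) (2 ^ (12 * i + l)) 0 = _
        rw [blt_true hl]; rfl
      rw [h1, dot_two_pow _ (two_pow_lt hi hl)]
      have h3 : sgn k n (12 * i + l) = sg (k l * k i) (k i * k l * vl k (W i l)) := by
        unfold sgn
        have e1 : (12 * i + l) / 12 = i := by omega
        have e2 : (12 * i + l) % 12 = l := by omega
        rw [e1, e2, if_pos (by omega), if_neg (by omega)]
      rw [h3]
      change k l * k i = k i * k l * (vl k (W i l) * _)
      rw [← mul_assoc]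
      apply eq_sg C
      apply Subtype.ext
      have h4 : k l * k i = vl k [l, i] := by simp
      have h5 : k i * k l * vl k (W i l) = vl k ([i, l] ++ W i l) := by simp [mul_assoc]
      rw [h4, h5, h.coe_vl (by simp; omega), h.coe_vl]
      · exact ev_eq_of (W_cm i hi l hl hil)
      · intro x hx
        rcases List.mem_append.1 hx with hx | hx
        · simp at hx; omega
        · exact W_lt i hi l hl x hx
    · have h1 : (T1 i l).2 = 0 := by
        change cond (Nat.blt l 12) (2 ^ (12 * i + l)) 0 = _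
        have : Nat.blt l 12 = false := by
          rw [← Bool.not_eq_true, Nat.blt_eq]; exact hl
        rw [this]; rfl
      have h2 : (T1 i l).1 = [] := W_ge i l (Nat.not_lt.1 hl)
      rw [h1, h2, h.one l (Nat.not_lt.1 hl), dot_zero]
      simp [zb]

theorem auto_V (C : Cov z π) {k : ℕ → K} (h : Lifts π k) {n : ℕ → K} (hn : ∀ g, π (n g) = nL g)
    {g i : ℕ} (hg : g < 2) (hi : i ∈ dom g) :
    V z k (sgn k n) 192 (im g i) = n g * k i * (n g)⁻¹ := by
  have hi12 := dom_lt g hg i hi
  rw [V]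
  have h1 : (im g i).2 = 2 ^ (144 + 12 * g + i) := rfl
  rw [h1, dot_two_pow _ (by omega)]
  have h3 : sgn k n (144 + 12 * g + i) = sg (n g * k i * (n g)⁻¹) (vl k (im g i).1) := by
    unfold sgn
    have e1 : (144 + 12 * g + i - 144) / 12 = g := by omega
    have e2 : (144 + 12 * g + i - 144) % 12 = i := by omega
    rw [e1, e2, if_neg (by omega)]
  rw [h3]
  refine (eq_sg C ?_).symm
  apply Subtype.ext
  rw [h.coe_vl (im_lt g hg i hi), map_mul, map_mul, map_inv, hn, h.lift i hi12]
  have h4 : (nL g * gen i * (nL g)⁻¹ : L) = (⟨ev (nw g ++ gw [i] ++ (nw g).reverse), ev_mem _⟩ : L) := by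
    apply Subtype.ext
    change ev (nw g) * gx (rt i) (tt i) * (ev (nw g))⁻¹ = ev (nw g ++ gw [i] ++ (nw g).reverse)
    rw [ev_append, ev_append, ev_reverse]
    have : ev (gw [i]) = gx (rt i) (tt i) := ev_singleton _
    rw [this]
  rw [h4]
  exact ev_eq_of (im_check g hg i hi)

theorem VV_map (C : Cov z π) {k : ℕ → K} (h : Lifts π k) {n : ℕ → K} (hn : ∀ g, π (n g) = nL g)
    {g : ℕ} (hg : g < 2) {A : List ℕ} (hA : ∀ l ∈ A, l ∈ dom g) :
    VV z k (sgn k n) 192 (A.map (im g)) = n g * vl k A * (n g)⁻¹ := by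
  induction A with
  | nil => simp
  | cons a A ih =>
    rw [List.map_cons, VV_cons, ih (fun l hl => hA l (List.mem_cons_of_mem _ hl)),
      auto_V C h hn hg (hA a List.mem_cons_self), vl_cons]
    group

theorem dot_EQ (C : Cov z π) {k : ℕ → K} (h : Lifts π k) {n : ℕ → K} (hn : ∀ g, π (n g) = nL g) :
    ∀ e ∈ EQ, dot (sgn k n) 192 e = false := by
  have S := sys1 C h n
  intro e he
  rcases List.mem_append.1 he with he | he
  · obtain ⟨⟨i, j, l, m⟩, hm, rfl⟩ := List.mem_map.1 he
    have hc := EQT_ok _ hm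
    unfold chkT at hc
    simp only at hc
    cases hb : Nat.blt i j with
    | true =>
      rw [hb, cond_true] at hc
      rw [Nat.blt_eq] at hb
      refine dot_of_chk S C.z1 hc ?_
      simp only [VV_cons, VV_nil, mul_one]
      have h1 := S.cm i j hb
      have h0 : ∀ A : List ℕ, V z k (sgn k n) 192 (A, 0) = vl k A := by
        intro A
        rw [V, dot_zero]; simp [zb]
      rw [h0, h0]
      simp only [vl_cons, vl_nil, mul_one, mul_assoc]
      rw [h1]
      simp only [mul_assoc]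
    | false =>
      rw [hb, cond_false] at hc
      cases hb2 : Nat.beq i j with
      | false => rw [hb2] at hc; exact absurd hc Bool.false_ne_true
      | true =>
        rw [hb2, cond_true] at hc
        rw [Nat.beq_eq] at hb2
        subst hb2
        refine dot_of_chk S C.z1 hc ?_
        simp only [VV_cons, VV_nil, mul_one]
        have h1 := S.sq i
        have h0 : ∀ A : List ℕ, V z k (sgn k n) 192 (A, 0) = vl k A := by
          intro A
          rw [V, dot_zero]; simp [zb]
        rw [h0, h0]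
        simp only [vl_cons, vl_nil, mul_one]
        rw [h1]
  · obtain ⟨⟨g, i, j, m⟩, hm, rfl⟩ := List.mem_map.1 he
    have hc := EQA_ok _ hm
    obtain ⟨hg, hi, hj⟩ := EQA_dom _ hm
    simp only at hg hi hj
    unfold chkA at hc
    simp only at hc
    have hi12 := dom_lt g hg i hi
    have hj12 := dom_lt g hg j hj
    cases hb : Nat.blt i j with
    | true =>
      rw [hb, cond_true] at hc
      rw [Nat.blt_eq] at hb
      refine dot_of_chk S C.z1 hc ?_
      rw [VV_append, VV_append, VV_map C h hn hg (W_dom g hg i hi j hj hb)]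
      simp only [VV_cons, VV_nil, mul_one]
      rw [auto_V C h hn hg hi, auto_V C h hn hg hj]
      have h1 := S.cm i j hb
      have h2 : V z k (sgn k n) 192 ([], 2 ^ (12 * i + j)) =
          zb z (dot (sgn k n) 192 (2 ^ (12 * i + j))) := by rw [V, vl_nil, one_mul]
      have h3 : (T1 i j).2 = 2 ^ (12 * i + j) := by
        change cond (Nat.blt j 12) (2 ^ (12 * i + j)) 0 = _
        rw [blt_true hj12]; rfl
      have h4 : V z k (sgn k n) 192 (T1 i j) =
          vl k (W i j) * zb z (dot (sgn k n) 192 (2 ^ (12 * i + j))) := by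
        rw [V, h3]; rfl
      rw [h4] at h1
      rw [h2]
      calc n g * k j * (n g)⁻¹ * (n g * k i * (n g)⁻¹) = n g * (k j * k i) * (n g)⁻¹ := by group
        _ = n g * (k i * k j * vl k (W i j)) *
            (zb z (dot (sgn k n) 192 (2 ^ (12 * i + j))) * (n g)⁻¹) := by rw [h1]; group
        _ = _ := by rw [zb_comm C.zc]; group
    | false =>
      rw [hb, cond_false] at hc
      cases hb2 : Nat.beq i j with
      | false => rw [hb2] at hc; exact absurd hc Bool.false_ne_true
      | true =>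
        rw [hb2, cond_true] at hc
        rw [Nat.beq_eq] at hb2
        subst hb2
        refine dot_of_chk S C.z1 hc ?_
        simp only [VV_cons, VV_nil, mul_one]
        rw [auto_V C h hn hg hi]
        have h1 := S.sq i
        have h3 : (T1 i i).2 = 2 ^ (13 * i) := by
          change cond (Nat.blt i 12) (2 ^ (12 * i + i)) 0 = _
          rw [blt_true hi12, cond_true]
          congr 1; ring
        have h5 : (T1 i i).1 = [] := W_diag i
        have h4 : V z k (sgn k n) 192 (T1 i i) = V z k (sgn k n) 192 ([], 2 ^ (13 * i)) := by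
          rw [V, V, h3, h5]
        rw [h4] at h1
        have h6 : V z k (sgn k n) 192 ([], 2 ^ (13 * i)) =
          zb z (dot (sgn k n) 192 (2 ^ (13 * i))) := by rw [V, vl_nil, one_mul]
        rw [h6] at h1 ⊢
        calc n g * k i * (n g)⁻¹ * (n g * k i * (n g)⁻¹) = n g * (k i * k i) * (n g)⁻¹ := by group
          _ = n g * (zb z (dot (sgn k n) 192 (2 ^ (13 * i))) * (n g)⁻¹) := by rw [h1]; group
          _ = _ := by rw [zb_comm C.zc]; group

/-- **The table of the Sylow 2-subgroup of a double cover of `G₂(4)`.** -/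
theorem exists_table (C : Cov z π) : ∃ (k : ℕ → K) (ε : Bool), Lifts π k ∧
    Sys z k (fun _ => ε) 1 T0 := by
  obtain ⟨k, h⟩ := exists_lifts C
  have hN : ∀ g, ∃ x, π x = nL g := fun g => C.surj _
  choose n hn using hN
  have S := sys1 C h n
  have hEQ := dot_EQ C h hn
  set s := sgn k n with hs
  -- the new lifts
  let k' : ℕ → K := fun l => k l * zb z (dot s 192 (nth 0 AM l))
  have hk' : ∀ l, k' l = k l * zb z (dot s 192 (nth 0 AM l)) := fun l => rfl
  have hA : ∀ i, 12 ≤ i → nth 0 AM i = 0 := by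
    intro i hi
    obtain ⟨m, rfl⟩ := Nat.exists_eq_add_of_le hi
    rw [Nat.add_comm]; rfl
  have hvl : ∀ A : List ℕ, vl k' A = vl k A * zb z (dot s 192 (am A)) := by
    intro A
    induction A with
    | nil => simp [am, dot_zero, zb]
    | cons a A ih =>
      have h1 : am (a :: A) = nth 0 AM a ^^^ am A := rfl
      rw [vl_cons, vl_cons, ih, h1, dot_xor, zb_xor C.zz, hk']
      calc k a * zb z (dot s 192 (nth 0 AM a)) * (vl k A * zb z (dot s 192 (am A)))
          = k a * (zb z (dot s 192 (nth 0 AM a)) * vl k A) * zb z (dot s 192 (am A)) := by group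
        _ = _ := by rw [zb_comm C.zc]; group
  have hL' : Lifts π k' := by
    refine ⟨fun i hi => ?_, fun i hi => ?_⟩
    · rw [hk', map_mul, h.lift i hi]
      have : π (zb z (dot s 192 (nth 0 AM i))) = 1 := by
        cases dot s 192 (nth 0 AM i)
        · exact map_one π
        · exact C.pz
      rw [this, mul_one]
    · rw [hk', h.one i hi, hA i hi, dot_zero]
      simp [zb]
  -- the signs
  set ε := s 0 with hε
  have hs0 : ∀ i < 12, ∀ j < 12, i ≤ j →
      dot s 192 (2 ^ (12 * i + j)) = xor (dot s 192 (am (W i j))) (dot (fun _ => ε) 1 (s0 i j)) := by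
    intro i hi j hj hij
    have h1 := dot_xorSel s 192 hEQ (nth 0 (nth [] CERT i) j)
    rw [cert_ok i hi j hj hij, dot_xor, dot_xor] at h1
    have hx : ∀ a b c : Bool, xor (xor a b) c = false → a = xor b c := by decide
    have h2 : dot s 192 (s0 i j) = dot (fun _ => ε) 1 (s0 i j) := by
      rcases s0_le i hi j hj with h3 | h3
      · rw [h3, dot_zero, dot_zero]
      · rw [h3]
        have h4 : dot s 192 1 = s 0 := dot_two_pow s (M := 192) (j := 0) (by norm_num)
        have h5 : dot (fun _ => ε) 1 1 = ε := dot_two_pow (fun _ => ε) (M := 1) (j := 0) (by norm_num)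
        rw [h4, h5]
    rw [← h2]
    exact hx _ _ _ h1
  refine ⟨k', ε, hL', C.zz, C.zc, ?_, ?_⟩
  · intro i
    by_cases hi : i < 12
    · have h1 := S.sq i
      have h3 : (T1 i i).2 = 2 ^ (12 * i + i) := by
        change cond (Nat.blt i 12) (2 ^ (12 * i + i)) 0 = _
        rw [blt_true hi]; rfl
      rw [V, h3, hs0 i hi i hi le_rfl] at h1
      have h5 : (T1 i i).1 = [] := W_diag i
      have h6 : (T0 i i).1 = [] := W_diag i
      have h7 : am (W i i) = 0 := by rw [W_diag]; rfl
      rw [h5, h7, dot_zero, Bool.false_xor, vl_nil, one_mul] at h1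
      rw [V, h6, vl_nil, one_mul, hk']
      calc k i * zb z (dot s 192 (nth 0 AM i)) * (k i * zb z (dot s 192 (nth 0 AM i)))
          = k i * (zb z (dot s 192 (nth 0 AM i)) * k i) * zb z (dot s 192 (nth 0 AM i)) := by group
        _ = (k i * k i) * (zb z (dot s 192 (nth 0 AM i)) * zb z (dot s 192 (nth 0 AM i))) := by
            rw [zb_comm C.zc]; group
        _ = k i * k i := by
            rw [← zb_xor C.zz, Bool.xor_self]; simp [zb]
        _ = _ := h1
    · have h6 : (T0 i i).1 = [] := W_diag i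
      have h7 : (T0 i i).2 = 0 := by
        obtain ⟨m, rfl⟩ := Nat.exists_eq_add_of_le (Nat.not_lt.1 hi)
        have h1 : nth [] S0 (12 + m) = [] := by
          rw [Nat.add_comm]; rfl
        change nth 0 (nth [] S0 (12 + m)) (12 + m) = 0
        rw [h1]; rfl
      rw [V, h6, h7, hL'.one i (Nat.not_lt.1 hi), dot_zero]
      simp [zb]
  · intro i l hil
    by_cases hl : l < 12
    · have hi : i < 12 := hil.trans hl
      have h1 := S.cm i l hil
      have h3 : (T1 i l).2 = 2 ^ (12 * i + l) := by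
        change cond (Nat.blt l 12) (2 ^ (12 * i + l)) 0 = _
        rw [blt_true hl]; rfl
      have h5 : (T1 i l).1 = W i l := rfl
      rw [V, h3, h5, hs0 i hi l hl hil.le, zb_xor C.zz] at h1
      have h6 : (T0 i l).1 = W i l := rfl
      have h7 : (T0 i l).2 = s0 i l := rfl
      rw [V, h6, h7, hvl, hk', hk']
      set a := zb z (dot s 192 (nth 0 AM i)) with ha
      set b := zb z (dot s 192 (nth 0 AM l)) with hb
      have hac : ∀ x, a * x = x * a := fun x => zb_comm C.zc _ x
      have hbc : ∀ x, b * x = x * b := fun x => zb_comm C.zc _ x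
      have e1 : k l * b * (k i * a) = k l * k i * (a * b) := by
        calc k l * b * (k i * a) = k l * (b * k i) * a := by group
          _ = k l * k i * (b * a) := by rw [hbc]; group
          _ = _ := by rw [hbc a]
      have e2 : ∀ X : K, k i * a * (k l * b) * X = k i * k l * X * (a * b) := by
        intro X
        calc k i * a * (k l * b) * X = k i * (a * k l) * (b * X) := by group
          _ = k i * k l * (a * X) * b := by rw [hac, hbc]; group
          _ = _ := by rw [hac]; group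
      rw [e1, e2, h1]
      simp only [mul_assoc]
    · have h6 : (T0 i l).1 = [] := W_ge i l (Nat.not_lt.1 hl)
      have h7 : (T0 i l).2 = 0 := by
        obtain ⟨m, rfl⟩ := Nat.exists_eq_add_of_le (Nat.not_lt.1 hl)
        change nth 0 (nth [] S0 i) (12 + m) = 0
        rw [Nat.add_comm]
        by_cases hi : i < 12
        · interval_cases i <;> rfl
        · obtain ⟨q, rfl⟩ := Nat.exists_eq_add_of_le (Nat.not_lt.1 hi)
          have h1 : nth [] S0 (12 + q) = [] := by
            rw [Nat.add_comm]; rfl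
          rw [h1]; rfl
      rw [V, h6, h7, hL'.one l (Nat.not_lt.1 hl), dot_zero]
      simp [zb]

end Cfsg.Agent.OddHalf.D9.G24.Cover

end

-- merged: Cfsg.Agent.OddHalf.D9.G24.Split
section

/-!
# Double covers of `G₂(4)`: the parameter of a perfect cover is not zero
-/

set_option autoImplicit false
set_option linter.unusedVariables false

namespace Cfsg.Agent.OddHalf.D9.G24.Split

open Subgroup
open Cfsg.Agent.StdG24.Mod6 Cfsg.Agent.OddHalf.D9.G24.Collect Cfsg.Agent.OddHalf.D9.G24.Tab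
  Cfsg.Agent.OddHalf.D9.G24.Cover

/-! ### Cardinality of a product -/

section Card

variable {K : Type*} [Group K] [Finite K]

/-- `A = N ∪ c N` -/
theorem card_le_two_mul {N A : Subgroup K} {c : K} (hn : ∀ x ∈ N, c * x * c⁻¹ ∈ N)
    (hn' : ∀ x ∈ N, c⁻¹ * x * c ∈ N) (hc : c * c ∈ N) {S : Set K} (hS : ∀ x ∈ S, x ∈ N ∨ c⁻¹ * x ∈ N)
    (hA : A ≤ closure S) : Nat.card A ≤ 2 * Nat.card N := by
  have key : ∀ x ∈ closure S, x ∈ N ∨ c⁻¹ * x ∈ N := by
    intro x hx
    induction hx using closure_induction with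
    | mem x hx => exact hS x hx
    | one => exact Or.inl (one_mem _)
    | mul x y _ _ hx hy =>
      rcases hx with hx | hx <;> rcases hy with hy | hy
      · exact Or.inl (mul_mem hx hy)
      · right
        have : c⁻¹ * (x * y) = c⁻¹ * x * c * (c⁻¹ * y) := by group
        rw [this]; exact mul_mem (hn' x hx) hy
      · right
        rw [← mul_assoc]; exact mul_mem hx hy
      · left
        have : x * y = c * (c⁻¹ * x) * c⁻¹ * (c * c) * (c⁻¹ * y) := by group
        rw [this]; exact mul_mem (mul_mem (hn _ hx) hc) hy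
    | inv x _ hx =>
      rcases hx with hx | hx
      · exact Or.inl (inv_mem hx)
      · right
        have : c⁻¹ * x⁻¹ = c⁻¹ * (c⁻¹ * x)⁻¹ * c * (c * c)⁻¹ := by group
        rw [this]; exact mul_mem (hn' _ (inv_mem hx)) (inv_mem hc)
  have hsub : (A : Set K) ⊆ (N : Set K) ∪ (fun x => c * x) '' (N : Set K) := by
    intro x hx
    rcases key x (hA hx) with h | h
    · exact Or.inl h
    · exact Or.inr ⟨c⁻¹ * x, h, by simp⟩
  have h1 : Nat.card A = (A : Set K).ncard := rfl
  have h2 : Nat.card N = (N : Set K).ncard := rfl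
  rw [h1, h2]
  calc (A : Set K).ncard ≤ ((N : Set K) ∪ (fun x => c * x) '' (N : Set K)).ncard :=
        Set.ncard_le_ncard hsub (Set.toFinite _)
    _ ≤ (N : Set K).ncard + ((fun x => c * x) '' (N : Set K)).ncard := Set.ncard_union_le _ _
    _ ≤ (N : Set K).ncard + (N : Set K).ncard := by
        have := Set.ncard_image_le (Set.toFinite (N : Set K)) (f := fun x => c * x)
        omega
    _ = 2 * (N : Set K).ncard := by ring

end Card

variable {K : Type*} [Group K] {z : K} {π : K →* L}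

/-- the group generated by the lifts `k j`, `i ≤ j` -/
def A (k : ℕ → K) (i : ℕ) : Subgroup K := closure {x | ∃ j, i ≤ j ∧ x = k j}

theorem A_mono (k : ℕ → K) {i j : ℕ} (h : i ≤ j) : A k j ≤ A k i :=
  closure_mono (by rintro x ⟨l, hl, rfl⟩; exact ⟨l, h.trans hl, rfl⟩)

theorem mem_A (k : ℕ → K) {i j : ℕ} (h : i ≤ j) : k j ∈ A k i := subset_closure ⟨j, h, rfl⟩

theorem W_gt : ∀ i < 12, ∀ j < 12, ∀ l ∈ W i j, i < l := by decide +kernel

theorem vl_mem {k : ℕ → K} {i : ℕ} {B : List ℕ} (h : ∀ l ∈ B, i ≤ l) : vl k B ∈ A k i := by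
  induction B with
  | nil => exact one_mem _
  | cons b B ih =>
    rw [vl_cons]
    exact mul_mem (mem_A k (h b List.mem_cons_self)) (ih fun l hl => h l (List.mem_cons_of_mem _ hl))

/-- the value of a table entry if the parameter is `0` -/
theorem V_false (k : ℕ → K) (i j : ℕ) : V z k (fun _ => false) 1 (T0 i j) = vl k (W i j) := by
  have : dot (fun _ => false) 1 (T0 i j).2 = false := by simp [dot]
  rw [V, this]
  simp [zb, T0]

theorem card_A [Finite K] {k : ℕ → K} (hk : Lifts π k) (S : Sys z k (fun _ => false) 1 T0) (m : ℕ)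
    (hm : m ≤ 12) : Nat.card (A k (12 - m)) ≤ 2 ^ m := by
  induction m with
  | zero =>
    have h1 : A k (12 - 0) = ⊥ := by
      rw [A, closure_eq_bot_iff]
      rintro x ⟨j, hj, rfl⟩
      exact hk.one j hj
    rw [h1, card_bot]; norm_num
  | succ m ih =>
    have ih' := ih (by omega)
    set i := 12 - (m + 1) with hi
    have hi1 : 12 - m = i + 1 := by omega
    have hi12 : i < 12 := by omega
    rw [hi1] at ih'
    have hsq : k i * k i = 1 := by
      have := S.sq i
      rw [V_false, W_diag] at this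
      exact this
    have hinv : (k i)⁻¹ = k i := inv_eq_of_mul_eq_one_left hsq
    have hcj : ∀ x ∈ A k (i + 1), k i * x * (k i)⁻¹ ∈ A k (i + 1) := by
      intro x hx
      induction hx using closure_induction with
      | mem x hx =>
        obtain ⟨j, hj, rfl⟩ := hx
        by_cases hj12 : j < 12
        · have h1 := S.cm i j hj
          rw [V_false] at h1
          have h2 : k i * k j * (k i)⁻¹ = k j * vl k (W i j) := by
            have h3 : k i * k j * vl k (W i j) * (k i)⁻¹ = k j := by rw [← h1]; group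
            have h4 : k i * (k j * vl k (W i j)) * (k i)⁻¹ = k j := by rw [← mul_assoc]; exact h3
            rw [hinv] at h4 ⊢
            calc k i * k j * k i = k i * (k i * (k j * vl k (W i j)) * k i) * k i := by rw [h4]
              _ = (k i * k i) * (k j * vl k (W i j)) * (k i * k i) := by group
              _ = _ := by rw [hsq, one_mul, mul_one]
          rw [h2]
          refine mul_mem (mem_A k hj) (vl_mem fun l hl => ?_)
          exact W_gt i hi12 j hj12 l hl
        · rw [hk.one j (Nat.not_lt.1 hj12)]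
          simp [one_mem]
      | one => simp [one_mem]
      | mul x y _ _ hx hy =>
        have : k i * (x * y) * (k i)⁻¹ = (k i * x * (k i)⁻¹) * (k i * y * (k i)⁻¹) := by group
        rw [this]; exact mul_mem hx hy
      | inv x _ hx =>
        have : k i * x⁻¹ * (k i)⁻¹ = (k i * x * (k i)⁻¹)⁻¹ := by group
        rw [this]; exact inv_mem hx
    have hcj' : ∀ x ∈ A k (i + 1), (k i)⁻¹ * x * k i ∈ A k (i + 1) := by
      intro x hx
      have := hcj x hx
      rw [hinv] at this ⊢
      exact this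
    have h2 := card_le_two_mul (A := A k i) hcj hcj' (by rw [hsq]; exact one_mem _)
      (S := {x | ∃ j, i ≤ j ∧ x = k j}) (by
        rintro x ⟨j, hj, rfl⟩
        rcases eq_or_lt_of_le hj with h | h
        · right; rw [← h]; simp [one_mem]
        · left; exact mem_A k h) le_rfl
    calc Nat.card (A k i) ≤ 2 * Nat.card (A k (i + 1)) := h2
      _ ≤ 2 * 2 ^ m := by omega
      _ = 2 ^ (m + 1) := by ring

/-! ### The Sylow 2-subgroup `U` of `G₂(4)` -/

open Cfsg.Agent.GTwoFour.Mdl (X X_cases gx_mem_X X_le_L Q1 Q1_rs X7_Q1 mulSub card_mulSub mem_mulSub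
  card_Q1 X_nat_card conj_Q1 Q1_PS)

/-- the Sylow 2-subgroup -/
def U : Subgroup GL6 := mulSub (X 7) Q1 X7_Q1

theorem X7_Q1_disj : ∀ g ∈ X 7, g ∈ Q1 → g = 1 := fun g hg hq =>
  Cfsg.Agent.GTwoFour.Mdl.S_Q1_disj g (Cfsg.Agent.GTwoFour.Mdl.X7_le_S hg) hq

theorem card_U : Nat.card U = 4096 := by
  rw [U, card_mulSub X7_Q1_disj, X_nat_card, card_Q1]

/-- generation of `U` -/
theorem U_le {B : Subgroup GL6} (h : ∀ i < 12, gx (rt i) (tt i) ∈ B) : U ≤ B := by
  have hX : ∀ r ∈ ([7, 6, 8, 9, 10, 11] : List (Fin 12)), X r ≤ B := by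
    have hc : ∀ r ∈ ([7, 6, 8, 9, 10, 11] : List (Fin 12)), ∃ i < 12, rt i = r ∧ tt i = 0 ∧
        rt (i + 1) = r ∧ tt (i + 1) = 1 ∧ i + 1 < 12 ∧ cw [(r, 2)] = cw [(r, 0), (r, 1)] := by
      decide +kernel
    intro r hr x hx
    obtain ⟨i, hi, h1, h2, h3, h4, h5, h6⟩ := hc r hr
    have g0 := h i hi
    have g1 := h (i + 1) h5
    rw [h1, h2] at g0
    rw [h3, h4] at g1
    rcases X_cases hx with rfl | ⟨t, rfl⟩
    · exact one_mem _
    · match t with
      | 0 => exact g0
      | 1 => exact g1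
      | 2 =>
        have h7 : gx r 2 = gx r 0 * gx r 1 := by
          have := ev_eq_of h6
          rw [ev_singleton] at this
          rw [this, show [(r, (0 : Fin 3)), (r, 1)] = [(r, 0)] ++ [(r, 1)] from rfl, ev_append,
            ev_singleton, ev_singleton]
        rw [h7]; exact mul_mem g0 g1
  intro x hx
  obtain ⟨a, ha, q, hq, rfl⟩ := mem_mulSub.1 hx
  refine mul_mem (hX 7 (by simp) ha) ?_
  have hPS : ∀ rs : List (Fin 12), (∀ r ∈ rs, X r ≤ B) → ∀ n ∈ Cfsg.Agent.GTwoFour.Mdl.PS rs, n ∈ B := by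
    intro rs
    induction rs with
    | nil => rintro _ n hn; rw [show n = 1 from hn]; exact one_mem _
    | cons r rs ih =>
      rintro h n ⟨x, hx, n', hn', rfl⟩
      exact mul_mem (h r List.mem_cons_self hx) (ih (fun s hs => h s (List.mem_cons_of_mem _ hs)) n' hn')
  exact hPS [6, 8, 9, 10, 11] (fun r hr => hX r (by simp at hr ⊢; tauto)) q (Q1_PS hq)

theorem gx_mem_U {i : ℕ} (hi : i < 12) : gx (rt i) (tt i) ∈ U := by
  have h : ∀ i < 12, rt i = 7 ∨ rt i ∈ ([6, 8, 9, 10, 11] : List (Fin 12)) := by decide +kernel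
  rcases h i hi with h | h
  · rw [h]
    exact mem_mulSub.2 ⟨_, gx_mem_X _ _, 1, one_mem _, by rw [mul_one]⟩
  · exact mem_mulSub.2 ⟨1, one_mem _, _, Q1_rs _ h (gx_mem_X _ _), by rw [one_mul]⟩

theorem U_le_L : U ≤ L := U_le fun i _ => gx_mem _ _

/-- the Sylow 2-subgroup of the cover -/
def UK (π : K →* L) : Subgroup K := (U.subgroupOf L).comap π

theorem mem_UK {x : K} : x ∈ UK π ↔ (π x : GL6) ∈ U := Iff.rfl

theorem lift_mem_UK {k : ℕ → K} (hk : Lifts π k) {i : ℕ} (hi : i < 12) : k i ∈ UK π := by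
  rw [mem_UK, hk.lift i hi]
  exact gx_mem_U hi

theorem z_mem_UK (C : Cov z π) : z ∈ UK π := by
  rw [mem_UK, C.pz]
  exact one_mem _

/-- every element of `UK` is a product of lifts, up to `z` -/
theorem UK_le (C : Cov z π) {k : ℕ → K} (hk : Lifts π k) : UK π ≤ A k 0 ⊔ zpowers z := by
  intro x hx
  rw [mem_UK] at hx
  have h1 : U ≤ ((A k 0).map π).map L.subtype := by
    refine U_le fun i hi => ?_
    exact ⟨π (k i), ⟨k i, mem_A k (Nat.zero_le i), rfl⟩, by rw [hk.lift i hi]; rfl⟩
  obtain ⟨_, ⟨a, ha, rfl⟩, h2⟩ := h1 hx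
  have h3 : π x = π a := Subtype.ext h2.symm
  rcases C.eq_or h3 with h | h
  · rw [h]; exact mem_sup_left ha
  · rw [h]; exact mul_mem (mem_sup_left ha) (mem_sup_right (mem_zpowers z))

theorem index_U : (U.subgroupOf L).index = 61425 := by
  have h1 := (U.subgroupOf L).card_mul_index
  have h2 : Nat.card (U.subgroupOf L) = 4096 := by
    rw [Nat.card_congr (subgroupOfEquivOfLe U_le_L).toEquiv, card_U]
  rw [h2, Cfsg.Agent.StdG24.Ord6.card_L] at h1
  omega

theorem index_UK (C : Cov z π) : (UK π).index = 61425 := by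
  rw [UK, index_comap_of_surjective _ C.surj, index_U]

theorem card_K [Finite K] (C : Cov z π) : Nat.card K = 2 * 251596800 := by
  have h1 := π.ker.card_eq_card_quotient_mul_card_subgroup
  have h2 : Nat.card (K ⧸ π.ker) = 251596800 := by
    rw [Nat.card_congr (QuotientGroup.quotientKerEquivOfSurjective π C.surj).toEquiv,
      Cfsg.Agent.StdG24.Ord6.card_L]
  have h3 : Nat.card π.ker = 2 := by
    have h4 : (π.ker : Set K) = {1, z} := by
      ext x
      constructor
      · intro hx; exact C.ker x hx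
      · rintro (rfl | rfl)
        · exact one_mem _
        · exact C.pz
    have h5 : Nat.card π.ker = (π.ker : Set K).ncard := rfl
    rw [h5, h4, Set.ncard_pair C.z1.symm]
  rw [h1, h2, h3]

theorem card_UK [Finite K] (C : Cov z π) : Nat.card (UK π) = 8192 := by
  have h1 := (UK π).card_mul_index
  rw [index_UK C, card_K C] at h1
  omega

theorem finite_of_cov (C : Cov z π) : Finite K := by
  have h2 : Finite L := Nat.finite_of_card_ne_zero (by rw [Cfsg.Agent.StdG24.Ord6.card_L]; norm_num)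
  have h3 : Finite π.ker := by
    refine Set.Finite.subset (Set.toFinite {1, z}) ?_ |>.to_subtype
    intro x hx
    exact C.ker x hx
  have h4 : Finite (K ⧸ π.ker) :=
    Finite.of_equiv L (QuotientGroup.quotientKerEquivOfSurjective π C.surj).symm.toEquiv
  exact Finite.of_subgroup_quotient π.ker

/-- The centre of a perfect cover lies in the commutator subgroup of its Sylow 2-subgroup. -/
theorem z_mem_commutator (C : Cov z π) (hp : commutator K = ⊤) : z ∈ ⁅UK π, UK π⁆ := by
  have := finite_of_cov C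
  have h1 := Cfsg.Agent.McLLyComp.CoverMT.pow_index_mem hp (UK π) (z := z)
    (mem_center_iff.2 fun g => (C.zc g).symm) (z_mem_UK C)
  have h2 : z ^ (UK π).index = z := by
    rw [index_UK C]
    calc z ^ 61425 = (z * z) ^ 30712 * z := by rw [← pow_two, ← pow_mul, ← pow_succ]
      _ = z := by rw [C.zz, one_pow, one_mul]
  rw [h2] at h1
  obtain ⟨x, hx, hxz⟩ := h1
  rw [← hxz]
  have h3 : (commutator (UK π)).map (UK π).subtype ≤ ⁅UK π, UK π⁆ := by
    rw [commutator_def, map_commutator, ← MonoidHom.range_eq_map, range_subtype]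
  exact h3 ⟨x, hx, rfl⟩

/-- **The parameter of a perfect cover is not zero.** -/
theorem exists_table_true (C : Cov z π) (hp : commutator K = ⊤) : ∃ k : ℕ → K, Lifts π k ∧
    Sys z k (fun _ => true) 1 T0 := by
  have := finite_of_cov C
  obtain ⟨k, ε, hk, S⟩ := exists_table C
  cases ε with
  | true => exact ⟨k, hk, S⟩
  | false =>
    exfalso
    have h1 := z_mem_commutator C hp
    have h2 : ⁅UK π, UK π⁆ ≤ A k 0 := by
      have h3 : ∀ x ∈ A k 0 ⊔ zpowers z, ∃ a ∈ A k 0, ∃ c : K, (∀ y, c * y = y * c) ∧ x = a * c := by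
        intro x hx
        have hN : (zpowers z).Normal := ⟨by
          intro n hn g
          obtain ⟨m, rfl⟩ := mem_zpowers_iff.1 hn
          have : g * z ^ m * g⁻¹ = z ^ m := by
            have h5 : Commute g (z ^ m) := Commute.zpow_right (C.zc g).symm m
            rw [h5.eq]; group
          rw [this]; exact hn⟩
        obtain ⟨a, ha, c, hc, rfl⟩ := Subgroup.mem_sup_of_normal_right.1 hx
        refine ⟨a, ha, c, ?_, rfl⟩
        obtain ⟨m, rfl⟩ := mem_zpowers_iff.1 hc
        intro y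
        exact (Commute.zpow_right (C.zc y).symm m).symm
      rw [commutator_le]
      intro x hx y hy
      obtain ⟨a, ha, c, hc, rfl⟩ := h3 x (UK_le C hk hx)
      obtain ⟨b, hb, d, hd, rfl⟩ := h3 y (UK_le C hk hy)
      rw [Cfsg.Agent.McLLyComp.CoverMT.comm_mul hc hd]
      exact mul_mem (mul_mem (mul_mem ha hb) (inv_mem ha)) (inv_mem hb)
    have hz : z ∈ A k 0 := h2 h1
    have h4 : UK π ≤ A k 0 := (UK_le C hk).trans (sup_le le_rfl ((zpowers_le).2 hz))
    have h5 := card_A hk S 12 le_rfl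
    have h6 := Subgroup.card_le_of_le h4
    rw [card_UK C] at h6
    have h7 : A k (12 - 12) = A k 0 := rfl
    rw [h7] at h5
    have h8 : (2 : ℕ) ^ 12 = 4096 := by norm_num
    omega

end Cfsg.Agent.OddHalf.D9.G24.Split

end

-- merged: Cfsg.Agent.OddHalf.D9.G24.InvL
section

/-!
# Facts on `G₂(4)` (six-dimensional model) for the double cover
-/

set_option autoImplicit false
set_option linter.unusedVariables false

namespace Cfsg.Agent.OddHalf.D9.G24.InvL

open Subgroup
open scoped commutatorElement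
open Cfsg.Agent.StdG24.Mod6
open Cfsg.Agent.StdG24.Inv6 (zE vE)
open Cfsg.Agent.GTwoFour.Mdl

/-! ### Commutators in `Q1` -/

/-- disjunction -/
def orF (a b : Bool) : Bool := Bool.rec b true a

theorem orF_spec {a b : Bool} (h : orF a b = true) : a = true ∨ b = true := by
  cases a
  · exact Or.inr h
  · exact Or.inl rfl

/-- the root elements of `Q1` -/
def Q1e : List (Fin 12 × Fin 3) := [(6, 0), (6, 1), (6, 2), (8, 0), (8, 1), (8, 2), (9, 0), (9, 1), (9, 2),
  (10, 0), (10, 1), (10, 2)]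

/-- some root element `x` satisfies `[C, x] = x_11(s)` -/
def anyC (C : List ℕ) (s : Fin 3) : Bool :=
  anyF Q1e fun p => mulF C (xc p.1 p.2) fun E => mulF (xc p.1 p.2) C fun F =>
    mulF (xc 11 s) F fun G => eqF E G

theorem comm_check : allN [6, 8, 9, 10, 11] idC (fun C => orF (siftF [11] C)
    (andF (anyC C 0) (anyC C 1))) = true := by decide +kernel

theorem anyC_spec {C : List ℕ} {q : GL6} (hC : Cd q C) {s : Fin 3} (h : anyC C s = true) :
    ∃ y ∈ Q1, ⁅q, y⁆ = gx 11 s := by
  obtain ⟨p, hp, h1⟩ := anyF_spec h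
  rw [mulF_eq, mulF_eq, mulF_eq, eqF_iff] at h1
  have h2 := (hC.mul (Cd_gx p.1 p.2)).inj
    (h1 ▸ (Cd_gx 11 s).mul ((Cd_gx p.1 p.2).mul hC))
  have hpr : ∀ p ∈ Q1e, p.1 ∈ ([6, 8, 9, 10, 11] : List (Fin 12)) := by decide
  refine ⟨gx p.1 p.2, Q1_rs _ (hpr p hp) (gx_mem_X _ _), ?_⟩
  rw [commutatorElement_def, h2]
  group

/-- an element of `Q1` outside `X 11` has all the elements of `X 11` as commutators -/
theorem exists_comm {q : GL6} (hq : q ∈ Q1) (hq' : q ∉ X 11) :
    (∃ y ∈ Q1, ⁅q, y⁆ = gx 11 0) ∧ ∃ y ∈ Q1, ⁅q, y⁆ = gx 11 1 := by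
  obtain ⟨C, hC, h1⟩ := allN_one comm_check q (Q1_PS hq)
  rcases orF_spec h1 with h | h
  · exact absurd (siftF_sound (N := X 11) (by simp) hC h) hq'
  · obtain ⟨h2, h3⟩ := andF_iff.1 h
    exact ⟨anyC_spec hC h2, anyC_spec hC h3⟩

/-! ### Classes of involutions -/

/-- the reflections -/
def na : GL6 := ev [(7, 0), (4, 0), (7, 0)]
def nb : GL6 := ev [(6, 0), (5, 0), (6, 0)]

theorem na_mem : na ∈ L := ev_mem _
theorem nb_mem : nb ∈ L := ev_mem _

theorem n_check : cw ([(6, 0), (5, 0), (6, 0)] ++ ([(7, 0), (4, 0), (7, 0)] ++ [(6, 0)] ++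
    [(7, 0), (4, 0), (7, 0)]) ++ [(6, 0), (5, 0), (6, 0)]) = cw [(11, 0)] := by decide +kernel

/-- every involution is conjugate to `gx 11 0` or to `gx 9 0` -/
theorem conj_inv {t : GL6} (ht : t ∈ L) (htt : t * t = 1) (ht1 : t ≠ 1) :
    (∃ g ∈ L, g * t * g⁻¹ = gx 11 0) ∨ ∃ g ∈ L, g * t * g⁻¹ = gx 9 0 := by
  rcases Cfsg.Agent.StdG24.Cls6.conj_z_or_v ht htt ht1 with ⟨g, hg, h⟩ | ⟨g, hg, h⟩
  · left
    refine ⟨nb * na * g, mul_mem (mul_mem nb_mem na_mem) hg, ?_⟩
    have h1 : nb * na * g * t * (nb * na * g)⁻¹ = nb * (na * (g * t * g⁻¹) * na⁻¹) * nb⁻¹ := by group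
    rw [h1, h]
    have h2 : na⁻¹ = ev [(7, 0), (4, 0), (7, 0)] := (ev_reverse [(7, 0), (4, 0), (7, 0)]).symm
    have h3 : nb⁻¹ = ev [(6, 0), (5, 0), (6, 0)] := (ev_reverse [(6, 0), (5, 0), (6, 0)]).symm
    have h4 : zE = ev [(6, 0)] := (ev_singleton (6, 0)).symm
    rw [h2, h3, h4, na, nb, ← ev_append, ← ev_append, ← ev_append, ← ev_append, ← ev_singleton (11, 0)]
    exact ev_eq_of n_check
  · exact Or.inr ⟨g, hg, h⟩

/-! ### A perfect subgroup commuting with `gx 9 0` -/

/-- `⟨X 5, X 6, X 10⟩ = 2^4 : SL₂(4)` -/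
def Y : Subgroup GL6 := closure {g | ∃ r ∈ ([5, 6, 10] : List (Fin 12)), ∃ t : Fin 3, g = gx r t}

theorem gx_mem_Y {r : Fin 12} (hr : r ∈ ([5, 6, 10] : List (Fin 12))) (t : Fin 3) : gx r t ∈ Y :=
  subset_closure ⟨r, hr, t, rfl⟩

theorem Y_le_L : Y ≤ L := (closure_le _).2 (by rintro _ ⟨r, -, t, rfl⟩; exact gx_mem r t)

theorem ev_mem_Y {w : Wd} (h : ∀ p ∈ w, p.1 ∈ ([5, 6, 10] : List (Fin 12))) : ev w ∈ Y := by
  induction w with
  | nil => exact one_mem _
  | cons p w ih =>
    have h1 : ev (p :: w) = gx p.1 p.2 * ev w := rfl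
    rw [h1]
    exact mul_mem (gx_mem_Y (h p List.mem_cons_self) _) (ih fun q hq => h q (List.mem_cons_of_mem _ hq))

/-- the torus element of `⟨X 5, X 6⟩` -/
def hb : Wd := [(6, 1), (5, 2), (6, 1), (6, 0), (5, 0), (6, 0)]

theorem Y_check : ∀ r ∈ ([5, 6, 10] : List (Fin 12)), ∀ t : Fin 3, ∃ t' : Fin 3,
    cw (cmw hb [(r, t')]) = cw [(r, t)] := by decide +kernel

theorem Y_perfect : Y ≤ ⁅Y, Y⁆ := by
  refine (closure_le _).2 ?_
  rintro _ ⟨r, hr, t, rfl⟩
  obtain ⟨t', h⟩ := Y_check r hr t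
  have h1 : gx r t = ⁅ev hb, ev [(r, t')]⁆ := by
    rw [← ev_cmw, ← ev_singleton (r, t)]
    exact (ev_eq_of h).symm
  rw [SetLike.mem_coe, h1]
  refine commutator_mem_commutator (ev_mem_Y (by decide)) ?_
  rw [ev_singleton]
  exact gx_mem_Y hr t'

end Cfsg.Agent.OddHalf.D9.G24.InvL

end

-- merged: Cfsg.Agent.OddHalf.D9.G24.Def
section

/-!
# The facts on `K = 2.G₂(4)` used at the level of `G`

Proved for every perfect central extension of `G₂(4)` by a group of order two in `G24/KFacts.lean`.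
-/

set_option autoImplicit false

namespace Cfsg.Agent.OddHalf.D9.G24.Def

open Subgroup
open scoped commutatorElement

/-- Facts on a perfect double cover `K` (centre `{1, z}`) of `G₂(4)`. -/
structure KFacts {K : Type*} [Group K] (z : K) : Prop where
  zz : z * z = 1
  z1 : z ≠ 1
  zc : ∀ y : K, y * z = z * y
  cen : ∀ x : K, (∀ y, x * y = y * x) → x = 1 ∨ x = z
  perf : ⁅(⊤ : Subgroup K), (⊤ : Subgroup K)⁆ = ⊤
  /-- the involutions different from `z` are conjugate up to `z` -/
  conj : ∀ e e' : K, e * e = 1 → e ≠ 1 → e ≠ z → e' * e' = 1 → e' ≠ 1 → e' ≠ z →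
    ∃ k : K, k * e * k⁻¹ = e' ∨ k * e * k⁻¹ = e' * z
  /-- their centralizers are perfect -/
  cperf : ∀ e : K, e * e = 1 → e ≠ 1 → e ≠ z →
    ⁅centralizer ({e} : Set K), centralizer ({e} : Set K)⁆ = centralizer ({e} : Set K)
  /-- no automorphism of `C(e)` maps `e` to `z` -/
  label : ∀ e : K, e * e = 1 → e ≠ 1 → e ≠ z →
    ∀ θ : centralizer ({e} : Set K) ≃* centralizer ({e} : Set K),
      ((θ ⟨e, mem_centralizer_singleton_iff.2 rfl⟩ : centralizer ({e} : Set K)) : K) ≠ z
  /-- a square root of `z` commutes with a perfect subgroup containing `z` -/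
  root : ∀ v : K, v * v = z → ∃ W : Subgroup K, ⁅W, W⁆ = W ∧ z ∈ W ∧ ∀ w ∈ W, w * v = v * w
  /-- an outer involutory automorphism `α`: some `c = α(k) k⁻¹ ≠ 1` lies in a perfect subgroup of `C(α)` -/
  out : ∀ α : MulAut K, (∀ x, α (α x) = x) → (∀ k, α ≠ MulAut.conj k) →
    ∃ k, α k * k⁻¹ ≠ 1 ∧ ∃ W : Subgroup K, ⁅W, W⁆ = W ∧ (∀ w ∈ W, α w = w) ∧ α k * k⁻¹ ∈ W
  /-- `Out(K)` has exponent (at most) two -/
  exp2 : ∀ α : MulAut K, ∃ k, α * α = MulAut.conj k

end Cfsg.Agent.OddHalf.D9.G24.Def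

end

-- merged: Cfsg.Agent.OddHalf.D9.G24.Inner
section

/-!
# Perfect double covers of `G₂(4)`: inner facts

Classes of involutions, centralizers, the label of `z`, square roots of `z`.
-/

set_option autoImplicit false
set_option linter.unusedVariables false
set_option linter.unusedSectionVars false

namespace Cfsg.Agent.OddHalf.D9.G24.Inner

open Subgroup
open scoped commutatorElement
open Cfsg.Agent.StdG24.Mod6 Cfsg.Agent.OddHalf.D9.G24.Collect Cfsg.Agent.OddHalf.D9.G24.Tab
  Cfsg.Agent.OddHalf.D9.G24.Cover Cfsg.Agent.OddHalf.D9.G24.Split Cfsg.Agent.OddHalf.D9.G24.InvL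
open Cfsg.Agent.GTwoFour.Mdl (X P Q1 gx_mem_X X_cases X_sq mem_P_of_comm perfect_P P_le_of_X core_P
  center_Q1 cent_Q1Z Q1_rs sq_Q1 X_le_L P_le_L Q1_le_P)

variable {K : Type*} [Group K] {z : K} {π : K →* L}

/-! ### Images and preimages -/

/-- image in `GL6` -/
def img (π : K →* L) (H : Subgroup K) : Subgroup GL6 := (H.map π).map L.subtype

/-- preimage of a subgroup of `GL6` -/
def pre (π : K →* L) (B : Subgroup GL6) : Subgroup K := (B.subgroupOf L).comap π

theorem mem_pre {B : Subgroup GL6} {x : K} : x ∈ pre π B ↔ (π x : GL6) ∈ B := Iff.rfl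

theorem mem_img {H : Subgroup K} {g : GL6} : g ∈ img π H ↔ ∃ h ∈ H, (π h : GL6) = g := by
  constructor
  · rintro ⟨_, ⟨h, hh, rfl⟩, rfl⟩
    exact ⟨h, hh, rfl⟩
  · rintro ⟨h, hh, rfl⟩
    exact ⟨_, ⟨h, hh, rfl⟩, rfl⟩

theorem coe_mem_img {H : Subgroup K} {h : K} (hh : h ∈ H) : (π h : GL6) ∈ img π H :=
  mem_img.2 ⟨h, hh, rfl⟩

section

variable (C : Cov z π)

include C

theorem eq_or' {x y : K} (h : (π x : GL6) = π y) : x = y ∨ x = y * z := C.eq_or (Subtype.ext h)

theorem mem_of_img {H : Subgroup K} (hz : z ∈ H) {x : K} (hx : (π x : GL6) ∈ img π H) : x ∈ H := by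
  obtain ⟨h, hh, he⟩ := mem_img.1 hx
  rcases eq_or' C he.symm with h1 | h1
  · rw [h1]; exact hh
  · rw [h1]; exact mul_mem hh hz

theorem exists_lift (g : GL6) (hg : g ∈ L) : ∃ x : K, (π x : GL6) = g := by
  obtain ⟨x, hx⟩ := C.surj ⟨g, hg⟩
  exact ⟨x, by rw [hx]⟩

theorem img_pre {B : Subgroup GL6} (hB : B ≤ L) : img π (pre π B) = B := by
  ext g
  rw [mem_img]
  constructor
  · rintro ⟨x, hx, rfl⟩; exact hx
  · intro hg
    obtain ⟨x, hx⟩ := exists_lift C g (hB hg)
    exact ⟨x, by rw [mem_pre, hx]; exact hg, hx⟩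

theorem z_mem_pre (B : Subgroup GL6) : z ∈ pre π B := by
  rw [mem_pre, C.pz]; exact one_mem _

theorem perfect_pre {B : Subgroup GL6} (hBL : B ≤ L) (hB : B ≤ ⁅B, B⁆)
    (hz : z ∈ ⁅pre π B, pre π B⁆) : ⁅pre π B, pre π B⁆ = pre π B := by
  refine le_antisymm (commutator_le_self _) ?_
  intro x hx
  refine mem_of_img C hz ?_
  have h1 : img π ⁅pre π B, pre π B⁆ = ⁅B, B⁆ := by
    rw [img, map_commutator, map_commutator]
    change ⁅img π (pre π B), img π (pre π B)⁆ = _
    rw [img_pre C hBL]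
  rw [h1]
  exact hB hx

/-- lifts commuting up to `z` normalise the centralizer -/
theorem norm_cent {c n : K} (h : n * c * n⁻¹ = c ∨ n * c * n⁻¹ = c * z) {x : K}
    (hx : x ∈ centralizer ({c} : Set K)) : n * x * n⁻¹ ∈ centralizer ({c} : Set K) := by
  rw [mem_centralizer_singleton_iff] at hx ⊢
  have hzc := C.zc
  have h1 : n * x * n⁻¹ * (n * c * n⁻¹) = n * c * n⁻¹ * (n * x * n⁻¹) := by
    calc n * x * n⁻¹ * (n * c * n⁻¹) = n * (x * c) * n⁻¹ := by group
      _ = n * (c * x) * n⁻¹ := by rw [hx]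
      _ = _ := by group
  rcases h with h | h
  · rwa [h] at h1
  · rw [h] at h1
    have h2 : n * x * n⁻¹ * c * z = c * (n * x * n⁻¹) * z := by
      calc n * x * n⁻¹ * c * z = n * x * n⁻¹ * (c * z) := by group
        _ = c * z * (n * x * n⁻¹) := h1
        _ = c * (z * (n * x * n⁻¹)) := by group
        _ = _ := by rw [hzc]; group
    exact mul_right_cancel h2

end

/-! ### The table -/

/-- the table with `ε = 1` -/
abbrev Tb (z : K) (k : ℕ → K) : Prop := Sys z k (fun _ => true) 1 T0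

theorem cm0 {k : ℕ → K} (S : Tb z k) {i l : ℕ} {A : List ℕ} (hil : i < l) (h : T0 i l = (A, 0)) :
    k l * k i = k i * k l * vl k A := by
  have h1 := S.cm i l hil
  have h2 : V z k (fun _ => true) 1 (T0 i l) = vl k A := by
    rw [h, V]
    have : dot (fun _ => true) 1 0 = false := by decide
    simp [this, zb]
  rw [h1, h2]

theorem cm1 {k : ℕ → K} (S : Tb z k) {i l : ℕ} {A : List ℕ} (hil : i < l) (h : T0 i l = (A, 1)) :
    k l * k i = k i * k l * vl k A * z := by
  have h1 := S.cm i l hil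
  have h2 : V z k (fun _ => true) 1 (T0 i l) = vl k A * z := by
    rw [h, V]
    have : dot (fun _ => true) 1 1 = true := by decide
    simp [this, zb]
  rw [h1, h2, ← mul_assoc]

theorem sq0 {k : ℕ → K} (S : Tb z k) {i : ℕ} (h : T0 i i = ([], 0)) : k i * k i = 1 := by
  rw [S.sq i, h, V]
  have : dot (fun _ => true) 1 0 = false := by decide
  simp [this, zb]

theorem sq1 {k : ℕ → K} (S : Tb z k) {i : ℕ} (h : T0 i i = ([], 1)) : k i * k i = z := by
  rw [S.sq i, h, V]
  have : dot (fun _ => true) 1 1 = true := by decide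
  simp [this, zb]

section

variable (C : Cov z π) {k : ℕ → K} (hk : Lifts π k) (S : Tb z k)

include C hk S

theorem k10_sq : k 10 * k 10 = 1 := sq0 S rfl

theorem k6_sq : k 6 * k 6 = z := sq1 S rfl

theorem coe_k {i : ℕ} (hi : i < 12) : (π (k i) : GL6) = gx (rt i) (tt i) := by
  rw [hk.lift i hi]; rfl

/-- the lift of `na` -/
theorem exists_na : ∃ n : K, (π n : GL6) = na := exists_lift C _ na_mem

theorem exists_nb : ∃ n : K, (π n : GL6) = nb := exists_lift C _ nb_mem

end

theorem na_conj (t : Fin 3) : na * gx 7 t * na⁻¹ = gx 4 t ∧ na * gx 11 t * na⁻¹ = gx 11 t := by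
  have h0 : na⁻¹ = ev [(7, 0), (4, 0), (7, 0)] := (ev_reverse [(7, 0), (4, 0), (7, 0)]).symm
  have hc : ∀ t : Fin 3, cw ([(7, 0), (4, 0), (7, 0)] ++ [(7, t)] ++ [(7, 0), (4, 0), (7, 0)]) =
      cw [(4, t)] ∧ cw ([(7, 0), (4, 0), (7, 0)] ++ [(11, t)] ++ [(7, 0), (4, 0), (7, 0)]) =
        cw [(11, t)] := by decide +kernel
  rw [h0, na, ← ev_singleton (7, t), ← ev_singleton (4, t), ← ev_singleton (11, t), ← ev_append,
    ← ev_append, ← ev_append, ← ev_append]
  exact ⟨ev_eq_of (hc t).1, ev_eq_of (hc t).2⟩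

theorem nb_conj (t : Fin 3) : nb * gx 6 t * nb⁻¹ = gx 5 t ∧ nb * gx 9 t * nb⁻¹ = gx 9 t := by
  have h0 : nb⁻¹ = ev [(6, 0), (5, 0), (6, 0)] := (ev_reverse [(6, 0), (5, 0), (6, 0)]).symm
  have hc : ∀ t : Fin 3, cw ([(6, 0), (5, 0), (6, 0)] ++ [(6, t)] ++ [(6, 0), (5, 0), (6, 0)]) =
      cw [(5, t)] ∧ cw ([(6, 0), (5, 0), (6, 0)] ++ [(9, t)] ++ [(6, 0), (5, 0), (6, 0)]) =
        cw [(9, t)] := by decide +kernel
  rw [h0, nb, ← ev_singleton (6, t), ← ev_singleton (5, t), ← ev_singleton (9, t), ← ev_append,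
    ← ev_append, ← ev_append, ← ev_append]
  exact ⟨ev_eq_of (hc t).1, ev_eq_of (hc t).2⟩

/-- `X r ≤ B` from the two generators -/
theorem X_le_of {r : Fin 12} {B : Subgroup GL6} (h0 : gx r 0 ∈ B) (h1 : gx r 1 ∈ B) : X r ≤ B := by
  intro x hx
  rcases X_cases hx with rfl | ⟨t, rfl⟩
  · exact one_mem _
  · have h6 : ∀ r : Fin 12, cw [(r, 2)] = cw [(r, 0), (r, 1)] := by decide +kernel
    match t with
    | 0 => exact h0
    | 1 => exact h1
    | 2 =>
      have h7 : gx r 2 = gx r 0 * gx r 1 := by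
        have := ev_eq_of (h6 r)
        rw [ev_singleton] at this
        rw [this, show [(r, (0 : Fin 3)), (r, 1)] = [(r, 0)] ++ [(r, 1)] from rfl, ev_append,
          ev_singleton, ev_singleton]
      rw [h7]; exact mul_mem h0 h1

section

variable (C : Cov z π) {k : ℕ → K} (hk : Lifts π k) (S : Tb z k)

include C hk S

theorem k10_comm {i : ℕ} (hi : i < 12) : k i * k 10 = k 10 * k i := by
  have h : ∀ i < 10, T0 i 10 = ([], 0) := by decide +kernel
  rcases lt_trichotomy i 10 with h1 | h1 | h1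
  · have := cm0 S h1 (h i h1)
    rw [vl_nil, mul_one] at this
    exact this.symm
  · rw [h1]
  · have h2 : i = 11 := by omega
    subst h2
    have := cm0 S (i := 10) (l := 11) (A := []) (by norm_num) rfl
    rw [vl_nil, mul_one] at this
    exact this

theorem k6_comm {i : ℕ} (hi : i ∈ [2, 3, 8, 9]) : k i * k 6 = k 6 * k i := by
  have h1 : ∀ i ∈ [2, 3], i < 6 ∧ T0 i 6 = ([], 0) := by decide +kernel
  have h2 : ∀ i ∈ [8, 9], 6 < i ∧ T0 6 i = ([], 0) := by decide +kernel
  have h3 : i ∈ [2, 3] ∨ i ∈ [8, 9] := by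
    simp only [List.mem_cons, List.not_mem_nil, or_false] at hi ⊢
    tauto
  rcases h3 with h | h
  · have := cm0 S (h1 i h).1 (h1 i h).2
    rw [vl_nil, mul_one] at this
    exact this.symm
  · have := cm0 S (h2 i h).1 (h2 i h).2
    rw [vl_nil, mul_one] at this
    exact this

/-- the centralizer of `k 10` is the preimage of `P` -/
theorem mem_cent10 {x : K} : x ∈ centralizer ({k 10} : Set K) ↔ (π x : GL6) ∈ P := by
  constructor
  · intro hx
    rw [mem_centralizer_singleton_iff] at hx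
    refine mem_P_of_comm (π x).2 ?_
    have h1 : (π (k 10) : GL6) = gx 11 0 := coe_k C hk S (by norm_num)
    rw [← h1, ← Subgroup.coe_mul, ← Subgroup.coe_mul, ← map_mul, ← map_mul, hx]
  · intro hx
    have hzc : z ∈ centralizer ({k 10} : Set K) := mem_centralizer_singleton_iff.2 (C.zc _)
    refine mem_of_img C hzc ?_
    refine P_le_of_X (K := img π (centralizer ({k 10} : Set K))) ?_ hx
    have hgen : ∀ i < 12, gx (rt i) (tt i) ∈ img π (centralizer ({k 10} : Set K)) := by
      intro i hi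
      rw [← coe_k C hk S hi]
      exact coe_mem_img (mem_centralizer_singleton_iff.2 (k10_comm C hk S hi))
    intro r hr
    obtain ⟨n, hn⟩ := exists_na C hk S
    have hn10 : n * k 10 * n⁻¹ = k 10 ∨ n * k 10 * n⁻¹ = k 10 * z := by
      apply eq_or' C
      rw [map_mul, map_mul, map_inv, Subgroup.coe_mul, Subgroup.coe_mul, Subgroup.coe_inv, hn,
        coe_k C hk S (by norm_num)]
      exact (na_conj 0).2
    have h4 : ∀ t : Fin 3, gx 7 t ∈ img π (centralizer ({k 10} : Set K)) →
        gx 4 t ∈ img π (centralizer ({k 10} : Set K)) := by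
      intro t ht
      obtain ⟨y, hy, hyt⟩ := mem_img.1 ht
      refine mem_img.2 ⟨n * y * n⁻¹, norm_cent C hn10 hy, ?_⟩
      rw [map_mul, map_mul, map_inv, Subgroup.coe_mul, Subgroup.coe_mul, Subgroup.coe_inv, hn, hyt]
      exact (na_conj t).1
    have hr' : r = 4 ∨ ∃ i < 12, rt i = r ∧ tt i = 0 ∧ rt (i + 1) = r ∧ tt (i + 1) = 1 ∧ i + 1 < 12 := by
      revert hr; revert r; decide +kernel
    rcases hr' with rfl | ⟨i, hi, e1, e2, e3, e4, hi'⟩
    · exact X_le_of (h4 0 (hgen 0 (by norm_num))) (h4 1 (hgen 1 (by norm_num)))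
    · refine X_le_of ?_ ?_
      · have := hgen i hi; rwa [e1, e2] at this
      · have := hgen (i + 1) hi'; rwa [e3, e4] at this

theorem cent10_eq : centralizer ({k 10} : Set K) = pre π P := by
  ext x
  exact mem_cent10 C hk S

theorem k_mem_pre {B : Subgroup GL6} {i : ℕ} (hi : i < 12) (h : gx (rt i) (tt i) ∈ B) : k i ∈ pre π B := by
  rw [mem_pre, coe_k C hk S hi]; exact h

theorem perfect10 : ⁅centralizer ({k 10} : Set K), centralizer ({k 10} : Set K)⁆ =
    centralizer ({k 10} : Set K) := by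
  rw [cent10_eq C hk S]
  refine perfect_pre C P_le_L perfect_P ?_
  have h1 : k 5 * k 4 = k 4 * k 5 * z := by
    have := cm1 S (i := 4) (l := 5) (A := []) (by norm_num) rfl
    rwa [vl_nil, mul_one] at this
  have h2 : ⁅k 4, k 5⁆ = z := by
    have h3 : k 4 * k 5 = k 5 * k 4 * z := by
      rw [h1, mul_assoc, C.zz, mul_one]
    rw [commutatorElement_def, h3, ← C.zc (k 5 * k 4)]
    group
  have hX8 : X 8 ≤ P := (Q1_rs 8 (by simp)).trans Q1_le_P
  rw [← h2]
  exact commutator_mem_commutator (k_mem_pre C hk S (by norm_num) (hX8 (gx_mem_X _ _)))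
    (k_mem_pre C hk S (by norm_num) (hX8 (gx_mem_X _ _)))

/-! ### Square roots of `z` -/

/-- the preimage of `Y` is perfect and commutes with `k 6` -/
theorem root6_pre : ⁅pre π Y, pre π Y⁆ = pre π Y ∧ ∀ w ∈ pre π Y, w * k 6 = k 6 * w := by
  refine ⟨?_, ?_⟩
  · refine perfect_pre C Y_le_L Y_perfect ?_
    have m2 : k 2 ∈ pre π Y := k_mem_pre C hk S (by norm_num) (gx_mem_Y (by decide) _)
    have m3 : k 3 ∈ pre π Y := k_mem_pre C hk S (by norm_num) (gx_mem_Y (by decide) _)
    have m8 : k 8 ∈ pre π Y := k_mem_pre C hk S (by norm_num) (gx_mem_Y (by decide) _)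
    have m9 : k 9 ∈ pre π Y := k_mem_pre C hk S (by norm_num) (gx_mem_Y (by decide) _)
    -- the three commutators
    have c1 := cm0 S (i := 2) (l := 8) (A := [10]) (by norm_num) rfl
    have c2 := cm0 S (i := 2) (l := 9) (A := [11]) (by norm_num) rfl
    have c3 := cm1 S (i := 3) (l := 9) (A := [10, 11]) (by norm_num) rfl
    simp only [vl_cons, vl_nil, mul_one] at c1 c2 c3
    have hc : ∀ i < 10, k 10 * k i = k i * k 10 := fun i hi => (k10_comm C hk S (by omega)).symm
    have h11 : ∀ i < 11, T0 i 11 = ([], 0) := by decide +kernel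
    have hd : ∀ i < 11, k 11 * k i = k i * k 11 := by
      intro i hi
      have := cm0 S hi (h11 i hi)
      rwa [vl_nil, mul_one] at this
    have comm_of : ∀ a b c : K, b * a = a * b * c → (c * a = a * c) → (c * b = b * c) → ⁅b, a⁆ = c := by
      intro a b c h ha hb
      have h3 : a * b * c = c * (a * b) := by
        rw [← mul_assoc c, ha, mul_assoc a, ← hb, ← mul_assoc]
      rw [commutatorElement_def, h, h3]
      group
    have e1 : ⁅k 8, k 2⁆ = k 10 := comm_of _ _ _ c1 (hc 2 (by norm_num)) (hc 8 (by norm_num))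
    have e2 : ⁅k 9, k 2⁆ = k 11 := comm_of _ _ _ c2 (hd 2 (by norm_num)) (hd 9 (by norm_num))
    have e3 : ⁅k 9, k 3⁆ = k 10 * k 11 * z := by
      refine comm_of _ _ _ (by rw [c3]; group) ?_ ?_
      · calc k 10 * k 11 * z * k 3 = k 10 * k 11 * (z * k 3) := by group
          _ = k 10 * (k 11 * k 3) * z := by rw [C.zc]; group
          _ = k 10 * k 3 * k 11 * z := by rw [hd 3 (by norm_num)]; group
          _ = _ := by rw [hc 3 (by norm_num)]; group
      · calc k 10 * k 11 * z * k 9 = k 10 * k 11 * (z * k 9) := by group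
          _ = k 10 * (k 11 * k 9) * z := by rw [C.zc]; group
          _ = k 10 * k 9 * k 11 * z := by rw [hd 9 (by norm_num)]; group
          _ = _ := by rw [hc 9 (by norm_num)]; group
    have s10 : k 10 * k 10 = 1 := k10_sq C hk S
    have s11 : k 11 * k 11 = 1 := sq0 S rfl
    have hz : z = ⁅k 8, k 2⁆ * ⁅k 9, k 3⁆ * ⁅k 9, k 2⁆ := by
      rw [e1, e2, e3]
      calc z = 1 * z := (one_mul z).symm
        _ = k 10 * k 10 * (z * (k 11 * k 11)) := by rw [s10, s11]; group
        _ = k 10 * k 10 * (k 11 * z * k 11) := by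
            congr 1
            rw [← mul_assoc, C.zc]
        _ = _ := by group
    rw [hz]
    exact mul_mem (mul_mem (commutator_mem_commutator m8 m2) (commutator_mem_commutator m9 m3))
      (commutator_mem_commutator m9 m2)
  · intro w hw
    have hzc : z ∈ centralizer ({k 6} : Set K) := mem_centralizer_singleton_iff.2 (C.zc _)
    suffices h : Y ≤ img π (centralizer ({k 6} : Set K)) from
      mem_centralizer_singleton_iff.1 (mem_of_img C hzc (h hw))
    obtain ⟨n, hn⟩ := exists_nb C hk S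
    have hn6 : n * k 6 * n⁻¹ = k 6 ∨ n * k 6 * n⁻¹ = k 6 * z := by
      apply eq_or' C
      rw [map_mul, map_mul, map_inv, Subgroup.coe_mul, Subgroup.coe_mul, Subgroup.coe_inv, hn,
        coe_k C hk S (by norm_num)]
      exact (nb_conj 0).2
    have hgen : ∀ i ∈ [2, 3, 8, 9], gx (rt i) (tt i) ∈ img π (centralizer ({k 6} : Set K)) := by
      intro i hi
      have h12 : ∀ i ∈ [2, 3, 8, 9], i < 12 := by decide
      rw [← coe_k C hk S (h12 i hi)]
      exact coe_mem_img (mem_centralizer_singleton_iff.2 (k6_comm C hk S hi))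
    have h5 : ∀ t : Fin 3, gx 6 t ∈ img π (centralizer ({k 6} : Set K)) →
        gx 5 t ∈ img π (centralizer ({k 6} : Set K)) := by
      intro t ht
      obtain ⟨y, hy, hyt⟩ := mem_img.1 ht
      refine mem_img.2 ⟨n * y * n⁻¹, norm_cent C hn6 hy, ?_⟩
      rw [map_mul, map_mul, map_inv, Subgroup.coe_mul, Subgroup.coe_mul, Subgroup.coe_inv, hn, hyt]
      exact (nb_conj t).1
    have hX6 : X 6 ≤ img π (centralizer ({k 6} : Set K)) :=
      X_le_of (hgen 2 (by simp)) (hgen 3 (by simp))
    have hX10 : X 10 ≤ img π (centralizer ({k 6} : Set K)) :=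
      X_le_of (hgen 8 (by simp)) (hgen 9 (by simp))
    refine (closure_le _).2 ?_
    rintro _ ⟨r, hr, t, rfl⟩
    simp only [List.mem_cons, List.not_mem_nil, or_false] at hr
    rcases hr with rfl | rfl | rfl
    · exact h5 t (hX6 (gx_mem_X _ _))
    · exact hX6 (gx_mem_X _ _)
    · exact hX10 (gx_mem_X _ _)

/-- a perfect subgroup containing `z` and commuting with `k 6` -/
theorem root6 : ∃ W : Subgroup K, ⁅W, W⁆ = W ∧ z ∈ W ∧ ∀ w ∈ W, w * k 6 = k 6 * w :=
  ⟨pre π Y, (root6_pre C hk S).1, z_mem_pre C _, (root6_pre C hk S).2⟩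

end

end Cfsg.Agent.OddHalf.D9.G24.Inner

end

-- merged: Cfsg.Agent.OddHalf.D9.G24.Label
section

/-!
# Perfect double covers of `G₂(4)`: the label of `z`

No automorphism of `C(e)`, `e ≠ z` an involution, maps `e` to `z`.
-/

set_option autoImplicit false
set_option linter.unusedVariables false
set_option linter.unusedSectionVars false

namespace Cfsg.Agent.OddHalf.D9.G24.Label

open Subgroup
open scoped commutatorElement
open Cfsg.Agent.StdG24.Mod6 Cfsg.Agent.OddHalf.D9.G24.Collect Cfsg.Agent.OddHalf.D9.G24.Tab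
  Cfsg.Agent.OddHalf.D9.G24.Cover Cfsg.Agent.OddHalf.D9.G24.Split Cfsg.Agent.OddHalf.D9.G24.InvL
  Cfsg.Agent.OddHalf.D9.G24.Inner
open Cfsg.Agent.GTwoFour.Mdl (X P Q1 gx_mem_X X_cases X_sq mem_P_of_comm perfect_P P_le_of_X core_P
  center_Q1 cent_Q1Z Q1_rs sq_Q1 X_le_L P_le_L Q1_le_P norm_Q1 Q1_PS PS)

variable {K : Type*} [Group K] {z : K} {π : K →* L}

theorem gx_ne (r : Fin 12) (t : Fin 3) : gx r t ≠ 1 := by
  intro h
  have h1 : ∀ (r : Fin 12) (t : Fin 3), cw [(r, t)] ≠ idC := by decide +kernel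
  refine h1 r t ?_
  have h2 : ev [(r, t)] = ev [] := by rw [ev_singleton, h, ev_nil]
  exact ev_eq_iff.1 h2

theorem gx_ne_gx : gx 11 0 ≠ gx 11 1 := by
  intro h
  have h1 : cw [((11 : Fin 12), (0 : Fin 3))] ≠ cw [(11, 1)] := by decide +kernel
  refine h1 (ev_eq_iff.1 ?_)
  rw [ev_singleton, ev_singleton, h]

/-- generation of `Q1` -/
theorem Q1_le_of {B : Subgroup GL6} (h : ∀ r ∈ ([6, 8, 9, 10, 11] : List (Fin 12)), X r ≤ B) : Q1 ≤ B := by
  intro q hq
  have hPS : ∀ rs : List (Fin 12), (∀ r ∈ rs, X r ≤ B) → ∀ n ∈ PS rs, n ∈ B := by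
    intro rs
    induction rs with
    | nil => rintro _ n hn; rw [show n = 1 from hn]; exact one_mem _
    | cons r rs ih =>
      rintro h n ⟨x, hx, n', hn', rfl⟩
      exact mul_mem (h r List.mem_cons_self hx) (ih (fun s hs => h s (List.mem_cons_of_mem _ hs)) n' hn')
  exact hPS _ h q (Q1_PS hq)

section

variable (C : Cov z π) {k : ℕ → K} (hk : Lifts π k) (S : Tb z k)

include C hk S

theorem k11_comm {i : ℕ} (hi : i < 12) : k i * k 11 = k 11 * k i := by
  have h : ∀ i < 11, T0 i 11 = ([], 0) := by decide +kernel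
  rcases lt_or_eq_of_le (Nat.lt_succ_iff.1 hi) with h1 | h1
  · have := cm0 S h1 (h i h1)
    rw [vl_nil, mul_one] at this
    exact this.symm
  · rw [h1]

/-- `k 11` is central in the preimage of `P` -/
theorem comm11 {x : K} (hx : (π x : GL6) ∈ P) : x * k 11 = k 11 * x := by
  have hzc : z ∈ centralizer ({k 11} : Set K) := mem_centralizer_singleton_iff.2 (C.zc _)
  refine mem_centralizer_singleton_iff.1 (mem_of_img C hzc ?_)
  refine P_le_of_X (K := img π (centralizer ({k 11} : Set K))) ?_ hx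
  have hgen : ∀ i < 12, gx (rt i) (tt i) ∈ img π (centralizer ({k 11} : Set K)) := by
    intro i hi
    rw [← coe_k C hk S hi]
    exact coe_mem_img (mem_centralizer_singleton_iff.2 (k11_comm C hk S hi))
  intro r hr
  obtain ⟨n, hn⟩ := exists_na C hk S
  have hn10 : n * k 11 * n⁻¹ = k 11 ∨ n * k 11 * n⁻¹ = k 11 * z := by
    apply eq_or' C
    rw [map_mul, map_mul, map_inv, Subgroup.coe_mul, Subgroup.coe_mul, Subgroup.coe_inv, hn,
      coe_k C hk S (by norm_num)]
    exact (na_conj 1).2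
  have h4 : ∀ t : Fin 3, gx 7 t ∈ img π (centralizer ({k 11} : Set K)) →
      gx 4 t ∈ img π (centralizer ({k 11} : Set K)) := by
    intro t ht
    obtain ⟨y, hy, hyt⟩ := mem_img.1 ht
    refine mem_img.2 ⟨n * y * n⁻¹, norm_cent C hn10 hy, ?_⟩
    rw [map_mul, map_mul, map_inv, Subgroup.coe_mul, Subgroup.coe_mul, Subgroup.coe_inv, hn, hyt]
    exact (na_conj t).1
  have hr' : r = 4 ∨ ∃ i < 12, rt i = r ∧ tt i = 0 ∧ rt (i + 1) = r ∧ tt (i + 1) = 1 ∧ i + 1 < 12 := by
    revert hr; revert r; decide +kernel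
  rcases hr' with rfl | ⟨i, hi, e1, e2, e3, e4, hi'⟩
  · exact X_le_of (h4 0 (hgen 0 (by norm_num))) (h4 1 (hgen 1 (by norm_num)))
  · refine X_le_of ?_ ?_
    · have := hgen i hi; rwa [e1, e2] at this
    · have := hgen (i + 1) hi'; rwa [e3, e4] at this

theorem comm10 {x : K} (hx : (π x : GL6) ∈ P) : x * k 10 = k 10 * x :=
  mem_centralizer_singleton_iff.1 ((mem_cent10 C hk S).2 hx)

/-- the preimage of `X 11` is central in the preimage of `P` -/
theorem comm_X11 {q : K} (hq : (π q : GL6) ∈ X 11) {x : K} (hx : (π x : GL6) ∈ P) : x * q = q * x := by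
  have h1 : X 11 ≤ img π (centralizer ((pre π P : Subgroup K) : Set K)) := by
    refine X_le_of ?_ ?_
    · refine mem_img.2 ⟨k 10, ?_, coe_k C hk S (by norm_num)⟩
      rw [mem_centralizer_iff]
      intro y hy
      exact comm10 C hk S hy
    · refine mem_img.2 ⟨k 11, ?_, coe_k C hk S (by norm_num)⟩
      rw [mem_centralizer_iff]
      intro y hy
      exact comm11 C hk S hy
  have hz : z ∈ centralizer ((pre π P : Subgroup K) : Set K) := by
    rw [mem_centralizer_iff]
    intro y _
    exact (C.zc y).symm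
  exact mem_centralizer_iff.1 (mem_of_img C hz (h1 hq)) x hx

/-- the group of the elements whose commutator with `q` is in the central group `F` -/
theorem comm_mem {q : K} (hq : (π q : GL6) ∈ P) {F : Subgroup K}
    (hF : ∀ f ∈ F, ∀ x, (π x : GL6) ∈ P → x * f = f * x)
    (hgen : ∀ i, 2 ≤ i → i < 12 → ⁅q, k i⁆ ∈ F) {y : K} (hy : (π y : GL6) ∈ Q1) : ⁅q, y⁆ ∈ F := by
  let T : Subgroup K :=
    { carrier := {y | (π y : GL6) ∈ P ∧ ⁅q, y⁆ ∈ F}
      one_mem' := ⟨by rw [map_one]; exact one_mem _, by rw [commutatorElement_one_right]; exact one_mem _⟩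
      mul_mem' := by
        rintro a b ⟨ha, ha'⟩ ⟨hb, hb'⟩
        refine ⟨by rw [map_mul]; exact mul_mem ha hb, ?_⟩
        have h1 : ⁅q, a * b⁆ = ⁅q, a⁆ * (a * ⁅q, b⁆ * a⁻¹) := by
          simp only [commutatorElement_def]; group
        have h2 : a * ⁅q, b⁆ * a⁻¹ = ⁅q, b⁆ := by rw [hF _ hb' a ha]; group
        rw [h1, h2]
        exact mul_mem ha' hb'
      inv_mem' := by
        rintro a ⟨ha, ha'⟩
        refine ⟨by rw [map_inv]; exact inv_mem ha, ?_⟩
        have h1 : ⁅q, a⁻¹⁆ = a⁻¹ * (⁅q, a⁆)⁻¹ * a⁻¹⁻¹ := by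
          simp only [commutatorElement_def]; group
        have h2 : (π a⁻¹ : GL6) ∈ P := by rw [map_inv]; exact inv_mem ha
        rw [h1, hF _ (inv_mem ha') a⁻¹ h2, mul_inv_cancel_right]
        exact inv_mem ha' }
  have hz : z ∈ T := by
    refine ⟨by rw [C.pz]; exact one_mem _, ?_⟩
    rw [commutatorElement_eq_one_iff_mul_comm.2 (C.zc q).symm]
    exact one_mem _
  have h1 : Q1 ≤ img π T := by
    refine Q1_le_of fun r hr => ?_
    have hr' : ∃ i < 12, 2 ≤ i ∧ rt i = r ∧ tt i = 0 ∧ rt (i + 1) = r ∧ tt (i + 1) = 1 ∧ i + 1 < 12 := by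
      revert hr; revert r; decide +kernel
    have hX : X r ≤ P := (Q1_rs r hr).trans Q1_le_P
    obtain ⟨i, hi, h2, e1, e2, e3, e4, hi'⟩ := hr'
    have hmem : ∀ j, 2 ≤ j → j < 12 → rt j = r → gx (rt j) (tt j) ∈ img π T := by
      intro j hj2 hj hjr
      rw [← coe_k C hk S hj]
      refine coe_mem_img ⟨?_, hgen j hj2 hj⟩
      rw [coe_k C hk S hj]
      exact hX (hjr ▸ gx_mem_X _ _)
    refine X_le_of ?_ ?_
    · have := hmem i h2 hi e1; rwa [e1, e2] at this
    · have := hmem (i + 1) (by omega) hi' e3; rwa [e3, e4] at this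
  exact (mem_of_img C hz (h1 hy)).2

/-- elements of the preimage of `Q1` have order dividing 8 -/
theorem pow_eight {y : K} (hy : (π y : GL6) ∈ Q1) : y ^ 8 = 1 := by
  have h1 := sq_Q1 _ hy
  have h2 := X_sq h1
  have h3 : (π (y ^ 4) : GL6) = 1 := by
    rw [map_pow, Subgroup.coe_pow]
    calc (π y : GL6) ^ 4 = (π y : GL6) * π y * ((π y : GL6) * π y) := by
          simp only [pow_succ, pow_zero, one_mul, mul_assoc]
      _ = 1 := h2
  have h4 : π (y ^ 4) = 1 := Subtype.ext h3
  rcases C.ker _ h4 with h | h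
  · calc y ^ 8 = y ^ 4 * y ^ 4 := by rw [← pow_add]
      _ = 1 := by rw [h, one_mul]
  · calc y ^ 8 = y ^ 4 * y ^ 4 := by rw [← pow_add]
      _ = 1 := by rw [h, C.zz]

/-- automorphisms of the preimage of `P` preserve the preimage of `Q1` -/
theorem map_Q1 (ψ : pre π P ≃* pre π P) (x : pre π P) (hx : (π (x : K) : GL6) ∈ Q1) :
    (π (ψ x : K) : GL6) ∈ Q1 := by
  let N : Subgroup K :=
    { carrier := {g | ∃ y : pre π P, (π (y : K) : GL6) ∈ Q1 ∧ (ψ y : K) = g}
      one_mem' := ⟨1, by rw [Subgroup.coe_one, map_one]; exact one_mem _, by rw [map_one, Subgroup.coe_one]⟩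
      mul_mem' := by
        rintro _ _ ⟨a, ha, rfl⟩ ⟨b, hb, rfl⟩
        exact ⟨a * b, by rw [Subgroup.coe_mul, map_mul]; exact mul_mem ha hb, by rw [map_mul, Subgroup.coe_mul]⟩
      inv_mem' := by
        rintro _ ⟨a, ha, rfl⟩
        exact ⟨a⁻¹, by rw [Subgroup.coe_inv, map_inv]; exact inv_mem ha, by rw [map_inv, Subgroup.coe_inv]⟩ }
  refine core_P (img π N) ?_ ?_ ?_ (coe_mem_img (π := π) (H := N) ⟨x, hx, rfl⟩)
  · intro g hg
    obtain ⟨_, ⟨y, _, rfl⟩, rfl⟩ := mem_img.1 hg
    exact (ψ y).2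
  · intro p hp g hg
    obtain ⟨_, ⟨y, hy, rfl⟩, rfl⟩ := mem_img.1 hg
    obtain ⟨m, hm⟩ := exists_lift C p (P_le_L hp)
    have hmP : m ∈ pre π P := by rw [mem_pre, hm]; exact hp
    set m' : pre π P := ⟨m, hmP⟩ with hm'
    refine mem_img.2 ⟨m * (ψ y : K) * m⁻¹, ⟨ψ.symm m' * y * (ψ.symm m')⁻¹, ?_, ?_⟩, ?_⟩
    · rw [Subgroup.coe_mul, Subgroup.coe_mul, Subgroup.coe_inv, map_mul, map_mul, map_inv,
        Subgroup.coe_mul, Subgroup.coe_mul, Subgroup.coe_inv]
      exact norm_Q1 _ (ψ.symm m').2 _ hy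
    · rw [map_mul, map_mul, map_inv, ψ.apply_symm_apply]
      rfl
    · rw [map_mul, map_mul, map_inv, Subgroup.coe_mul, Subgroup.coe_mul, Subgroup.coe_inv, hm]
  · rintro ⟨g, hg⟩
    obtain ⟨_, ⟨y, hy, rfl⟩, rfl⟩ := mem_img.1 hg
    refine ⟨3, Subtype.ext ?_⟩
    have h1 : y ^ 8 = 1 := Subtype.ext (by rw [Subgroup.coe_pow]; exact pow_eight C hk S hy)
    have h2 : (ψ y) ^ 8 = 1 := by rw [← map_pow, h1, map_one]
    have h3 : (ψ y : K) ^ 8 = 1 := by
      have := congrArg (Subtype.val) h2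
      rwa [Subgroup.coe_pow] at this
    change (π (ψ y : K) : GL6) ^ (2 ^ 3) = 1
    rw [show (2 : ℕ) ^ 3 = 8 by norm_num, ← Subgroup.coe_pow, ← map_pow, h3, map_one, Subgroup.coe_one]

/-- the key step: `q ∈ Q1^`, all `[q, y]` in `{1, e, b, e b}` -/
theorem label_aux (ψ : pre π P ≃* pre π P) {e b q : pre π P} (hq : (π (q : K) : GL6) ∈ Q1)
    (hqc : ∃ y : pre π P, q * y ≠ y * q)
    (hcomm : ∀ y : pre π P, (π (y : K) : GL6) ∈ Q1 → ⁅q, y⁆ = 1 ∨ ⁅q, y⁆ = e ∨ ⁅q, y⁆ = b ∨ ⁅q, y⁆ = e * b)
    (he : (ψ e : K) = z) : False := by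
  have h1 := map_Q1 C hk S ψ q hq
  have h2 : (π (ψ q : K) : GL6) ∉ X 11 := by
    intro h
    obtain ⟨y, hy⟩ := hqc
    apply hy
    apply ψ.injective
    rw [map_mul, map_mul]
    apply Subtype.ext
    rw [Subgroup.coe_mul, Subgroup.coe_mul]
    exact (comm_X11 C hk S h (ψ y).2).symm
  obtain ⟨⟨y0, hy0, h3⟩, ⟨y1, hy1, h4⟩⟩ := exists_comm h1 h2
  have key : ∀ y ∈ Q1, ∀ s : Fin 3, ⁅(π (ψ q : K) : GL6), y⁆ = gx 11 s → gx 11 s = (π (ψ b : K) : GL6) := by
    intro y hy s hs
    obtain ⟨m, hm⟩ := exists_lift C y (P_le_L (Q1_le_P hy))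
    have hmP : m ∈ pre π P := by rw [mem_pre, hm]; exact Q1_le_P hy
    set m' : pre π P := ⟨m, hmP⟩ with hm'
    have h5 : (π ((ψ.symm m' : pre π P) : K) : GL6) ∈ Q1 := map_Q1 C hk S ψ.symm m' (by
      change (π m : GL6) ∈ Q1
      rw [hm]; exact hy)
    have h7 : ∀ a b : pre π P, (π ((⁅a, b⁆ : pre π P) : K) : GL6) =
        ⁅(π (a : K) : GL6), (π (b : K) : GL6)⁆ := fun a b =>
      map_commutatorElement ((L.subtype.comp π).comp (pre π P).subtype) a b
    have h6 : (π ((ψ ⁅q, ψ.symm m'⁆ : pre π P) : K) : GL6) = gx 11 s := by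
      rw [map_commutatorElement, ψ.apply_symm_apply, h7, ← hs, ← hm]
    have hzero : (π ((ψ 1 : pre π P) : K) : GL6) = 1 := by
      rw [map_one, Subgroup.coe_one, map_one, Subgroup.coe_one]
    have hez : (π ((ψ e : pre π P) : K) : GL6) = 1 := by
      rw [he, C.pz]; rfl
    rcases hcomm _ h5 with h | h | h | h
    · rw [h, hzero] at h6; exact absurd h6.symm (gx_ne 11 s)
    · rw [h, hez] at h6; exact absurd h6.symm (gx_ne 11 s)
    · rw [h] at h6; exact h6.symm
    · rw [h, map_mul, Subgroup.coe_mul, map_mul, Subgroup.coe_mul, hez, one_mul] at h6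
      exact h6.symm
  exact gx_ne_gx ((key y0 hy0 0 h3).trans (key y1 hy1 1 h4).symm)

/-- the two witnesses: `q = k 2`, `b = k 11` for `e = k 10`; `q = k 3`, `b = k 11` for `e = k 10 z` -/
theorem comm2 {y : K} (hy : (π y : GL6) ∈ Q1) :
    ⁅k 2, y⁆ = 1 ∨ ⁅k 2, y⁆ = k 10 ∨ ⁅k 2, y⁆ = k 11 ∨ ⁅k 2, y⁆ = k 10 * k 11 := by
  have s10 : k 10 * k 10 = 1 := k10_sq C hk S
  have s11 : k 11 * k 11 = 1 := sq0 S rfl
  have h10 : k 11 * k 10 = k 10 * k 11 := k10_comm C hk S (by norm_num)
  have hX : ∀ i, 2 ≤ i → i < 12 → (π (k i) : GL6) ∈ P := by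
    intro i h2 hi
    have hr : ∀ i < 12, 2 ≤ i → rt i ∈ ([6, 8, 9, 10, 11] : List (Fin 12)) := by decide +kernel
    rw [coe_k C hk S hi]
    exact Q1_le_P (Q1_rs _ (hr i hi h2) (gx_mem_X _ _))
  let F := Cfsg.Agent.GTwoFour.OuterSyl.four (k 10) (k 11) s10 s11 h10.symm
  have hF : ∀ f ∈ F, ∀ x, (π x : GL6) ∈ P → x * f = f * x := by
    intro f hf x hx
    have c10 := comm10 C hk S hx
    have c11 := comm11 C hk S hx
    rcases hf with h | h | h | h
    · rw [h, mul_one, one_mul]
    · rw [h]; exact c10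
    · rw [h]; exact c11
    · rw [h, ← mul_assoc, c10, mul_assoc, c11, mul_assoc]
  refine comm_mem C hk S (F := F) (hX 2 le_rfl (by norm_num)) hF ?_ hy
  intro i h2 hi
  have hcase : i = 2 ∨ ((2 < i) ∧ ((T0 2 i = ([], 0)) ∨ T0 2 i = ([10], 0) ∨ T0 2 i = ([11], 0))) := by
    have : ∀ i < 12, 2 ≤ i → (i = 2 ∨ ((2 < i) ∧ ((T0 2 i = ([], 0)) ∨ T0 2 i = ([10], 0) ∨
      T0 2 i = ([11], 0)))) := by decide +kernel
    exact this i hi h2
  have comm_of : ∀ c : K, (∀ x, (π x : GL6) ∈ P → x * c = c * x) → c * c = 1 →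
      k i * k 2 = k 2 * k i * c → ⁅k 2, k i⁆ = c := by
    intro c hc hcc h
    have h3 : k 2 * k i = k i * k 2 * c := by rw [h, mul_assoc, hcc, mul_one]
    have h4 : k i * k 2 * c = c * (k i * k 2) := by
      have := hc (k i * k 2) (by
        rw [map_mul]; exact mul_mem (hX i h2 hi) (hX 2 le_rfl (by norm_num)))
      exact this
    rw [commutatorElement_def, h3, h4]
    group
  rcases hcase with rfl | ⟨h3, h | h | h⟩
  · rw [commutatorElement_self]; exact one_mem _
  · have h4 := cm0 S h3 h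
    rw [vl_nil, mul_one] at h4
    rw [commutatorElement_eq_one_iff_mul_comm.2 h4.symm]; exact one_mem _
  · have h4 := cm0 S h3 h
    simp only [vl_cons, vl_nil, mul_one] at h4
    right; left
    exact comm_of _ (fun x hx => comm10 C hk S hx) s10 h4
  · have h4 := cm0 S h3 h
    simp only [vl_cons, vl_nil, mul_one] at h4
    right; right; left
    exact comm_of _ (fun x hx => comm11 C hk S hx) s11 h4

theorem comm3 {y : K} (hy : (π y : GL6) ∈ Q1) :
    ⁅k 3, y⁆ = 1 ∨ ⁅k 3, y⁆ = k 10 * z ∨ ⁅k 3, y⁆ = k 11 ∨ ⁅k 3, y⁆ = k 10 * z * k 11 := by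
  have s10 : k 10 * k 10 = 1 := k10_sq C hk S
  have s11 : k 11 * k 11 = 1 := sq0 S rfl
  have h10 : k 11 * k 10 = k 10 * k 11 := k10_comm C hk S (by norm_num)
  have hzz := C.zz
  have hzc := C.zc
  have s10z : k 10 * z * (k 10 * z) = 1 := by
    calc k 10 * z * (k 10 * z) = k 10 * (z * k 10) * z := by group
      _ = k 10 * k 10 * (z * z) := by rw [hzc]; group
      _ = 1 := by rw [s10, hzz, one_mul]
  have h10z : k 10 * z * k 11 = k 11 * (k 10 * z) := by
    calc k 10 * z * k 11 = k 10 * (z * k 11) := by group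
      _ = k 10 * k 11 * z := by rw [hzc]; group
      _ = _ := by rw [← h10]; group
  have hX : ∀ i, 2 ≤ i → i < 12 → (π (k i) : GL6) ∈ P := by
    intro i h2 hi
    have hr : ∀ i < 12, 2 ≤ i → rt i ∈ ([6, 8, 9, 10, 11] : List (Fin 12)) := by decide +kernel
    rw [coe_k C hk S hi]
    exact Q1_le_P (Q1_rs _ (hr i hi h2) (gx_mem_X _ _))
  let F := Cfsg.Agent.GTwoFour.OuterSyl.four (k 10 * z) (k 11) s10z s11 h10z
  have c10z : ∀ x, (π x : GL6) ∈ P → x * (k 10 * z) = k 10 * z * x := by
    intro x hx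
    calc x * (k 10 * z) = (x * k 10) * z := by group
      _ = k 10 * (x * z) := by rw [comm10 C hk S hx]; group
      _ = _ := by rw [← hzc]; group
  have hF : ∀ f ∈ F, ∀ x, (π x : GL6) ∈ P → x * f = f * x := by
    intro f hf x hx
    have c10 := c10z x hx
    have c11 := comm11 C hk S hx
    rcases hf with h | h | h | h
    · rw [h, mul_one, one_mul]
    · rw [h]; exact c10
    · rw [h]; exact c11
    · rw [h]
      calc x * (k 10 * z * k 11) = (x * (k 10 * z)) * k 11 := by group
        _ = (k 10 * z) * (x * k 11) := by rw [c10]; group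
        _ = _ := by rw [c11]; group
  refine comm_mem C hk S (F := F) (hX 3 (by norm_num) (by norm_num)) hF ?_ hy
  intro i h2 hi
  have hcase : i = 2 ∨ i = 3 ∨ ((3 < i) ∧ ((T0 3 i = ([], 0)) ∨ T0 3 i = ([11], 0) ∨
      T0 3 i = ([10, 11], 1))) := by
    have : ∀ i < 12, 2 ≤ i → (i = 2 ∨ i = 3 ∨ ((3 < i) ∧ ((T0 3 i = ([], 0)) ∨ T0 3 i = ([11], 0) ∨
      T0 3 i = ([10, 11], 1)))) := by decide +kernel
    exact this i hi h2
  have comm_of : ∀ c : K, (∀ x, (π x : GL6) ∈ P → x * c = c * x) → c * c = 1 →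
      k i * k 3 = k 3 * k i * c → ⁅k 3, k i⁆ = c := by
    intro c hc hcc h
    have h3 : k 3 * k i = k i * k 3 * c := by rw [h, mul_assoc, hcc, mul_one]
    have h4 : k i * k 3 * c = c * (k i * k 3) := by
      have := hc (k i * k 3) (by
        rw [map_mul]; exact mul_mem (hX i h2 hi) (hX 3 (by norm_num) (by norm_num)))
      exact this
    rw [commutatorElement_def, h3, h4]
    group
  rcases hcase with rfl | rfl | ⟨h3, h | h | h⟩
  · have h4 := cm0 S (i := 2) (l := 3) (A := []) (by norm_num) rfl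
    rw [vl_nil, mul_one] at h4
    rw [commutatorElement_eq_one_iff_mul_comm.2 h4]; exact one_mem _
  · rw [commutatorElement_self]; exact one_mem _
  · have h4 := cm0 S h3 h
    rw [vl_nil, mul_one] at h4
    rw [commutatorElement_eq_one_iff_mul_comm.2 h4.symm]; exact one_mem _
  · have h4 := cm0 S h3 h
    simp only [vl_cons, vl_nil, mul_one] at h4
    right; right; left
    exact comm_of _ (fun x hx => comm11 C hk S hx) s11 h4
  · have h4 := cm1 S h3 h
    simp only [vl_cons, vl_nil, mul_one] at h4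
    right; right; right
    refine comm_of _ (fun x hx => hF _ (Or.inr (Or.inr (Or.inr rfl))) x hx) ?_ ?_
    · calc k 10 * z * k 11 * (k 10 * z * k 11) = k 10 * z * (k 11 * (k 10 * z)) * k 11 := by group
        _ = k 10 * z * (k 10 * z) * (k 11 * k 11) := by rw [← h10z]; group
        _ = 1 := by rw [s10z, s11, one_mul]
    · rw [h4]
      calc k 3 * k i * (k 10 * k 11) * z = k 3 * k i * (k 10 * (k 11 * z)) := by group
        _ = _ := by rw [← hzc]; group

/-- **Label.** -/
theorem label {e : K} (he : e = k 10 ∨ e = k 10 * z) (ψ : pre π P ≃* pre π P)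
    (heP : e ∈ pre π P) : ((ψ ⟨e, heP⟩ : pre π P) : K) ≠ z := by
  intro hz
  have hr : ∀ i < 12, 2 ≤ i → rt i ∈ ([6, 8, 9, 10, 11] : List (Fin 12)) := by decide +kernel
  have hQ : ∀ i, 2 ≤ i → i < 12 → (π (k i) : GL6) ∈ Q1 := by
    intro i h2 hi
    rw [coe_k C hk S hi]
    exact Q1_rs _ (hr i hi h2) (gx_mem_X _ _)
  have hP : ∀ i, 2 ≤ i → i < 12 → k i ∈ pre π P := fun i h2 hi => Q1_le_P (hQ i h2 hi)
  have hne : ∀ i, i < 12 → k i ≠ 1 := by
    intro i hi h
    have h1 := coe_k C hk S hi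
    rw [h, map_one] at h1
    exact gx_ne _ _ h1.symm
  rcases he with rfl | rfl
  · refine label_aux C hk S ψ (e := ⟨k 10, heP⟩) (b := ⟨k 11, hP 11 (by norm_num) (by norm_num)⟩)
      (q := ⟨k 2, hP 2 (by norm_num) (by norm_num)⟩) (hQ 2 (by norm_num) (by norm_num)) ?_ ?_ hz
    · refine ⟨⟨k 8, hP 8 (by norm_num) (by norm_num)⟩, fun h => ?_⟩
      have h1 : k 2 * k 8 = k 8 * k 2 := congrArg Subtype.val h
      have h2 := cm0 S (i := 2) (l := 8) (A := [10]) (by norm_num) rfl
      simp only [vl_cons, vl_nil, mul_one] at h2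
      rw [h1] at h2
      exact hne 10 (by norm_num) (mul_eq_left.1 h2.symm)
    · intro y hy
      rcases comm2 C hk S hy with h | h | h | h
      · exact Or.inl (Subtype.ext h)
      · exact Or.inr (Or.inl (Subtype.ext h))
      · exact Or.inr (Or.inr (Or.inl (Subtype.ext h)))
      · exact Or.inr (Or.inr (Or.inr (Subtype.ext h)))
  · refine label_aux C hk S ψ (e := ⟨k 10 * z, heP⟩) (b := ⟨k 11, hP 11 (by norm_num) (by norm_num)⟩)
      (q := ⟨k 3, hP 3 (by norm_num) (by norm_num)⟩) (hQ 3 (by norm_num) (by norm_num)) ?_ ?_ hz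
    · refine ⟨⟨k 8, hP 8 (by norm_num) (by norm_num)⟩, fun h => ?_⟩
      have h1 : k 3 * k 8 = k 8 * k 3 := congrArg Subtype.val h
      have h2 := cm0 S (i := 3) (l := 8) (A := [11]) (by norm_num) rfl
      simp only [vl_cons, vl_nil, mul_one] at h2
      rw [h1] at h2
      exact hne 11 (by norm_num) (mul_eq_left.1 h2.symm)
    · intro y hy
      rcases comm3 C hk S hy with h | h | h | h
      · exact Or.inl (Subtype.ext h)
      · exact Or.inr (Or.inl (Subtype.ext h))
      · exact Or.inr (Or.inr (Or.inl (Subtype.ext h)))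
      · exact Or.inr (Or.inr (Or.inr (Subtype.ext h)))

end

end Cfsg.Agent.OddHalf.D9.G24.Label

end

-- merged: Cfsg.Agent.OddHalf.D9.G24.KFacts
section

/-!
# Perfect double covers of `G₂(4)`: the structure `Def.KFacts`
-/

set_option autoImplicit false
set_option linter.unusedVariables false
set_option linter.unusedSectionVars false

namespace Cfsg.Agent.OddHalf.D9.G24.KFacts

open Subgroup
open scoped commutatorElement
open Cfsg.Agent.StdG24.Mod6 Cfsg.Agent.OddHalf.D9.G24.Collect Cfsg.Agent.OddHalf.D9.G24.Tab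
  Cfsg.Agent.OddHalf.D9.G24.Cover Cfsg.Agent.OddHalf.D9.G24.Split Cfsg.Agent.OddHalf.D9.G24.InvL
  Cfsg.Agent.OddHalf.D9.G24.Inner Cfsg.Agent.OddHalf.D9.G24.Label
open Cfsg.Agent.GTwoFour.Mdl (X P Q1)

variable {K : Type*} [Group K] {z : K} {π : K →* L}

/-- centralizers of conjugates -/
theorem mem_cent_conj {e c x : K} (h : x * e * x⁻¹ = c) {y : K} :
    y ∈ centralizer ({e} : Set K) ↔ x * y * x⁻¹ ∈ centralizer ({c} : Set K) := by
  rw [mem_centralizer_singleton_iff, mem_centralizer_singleton_iff, ← h]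
  constructor
  · intro hy
    calc x * y * x⁻¹ * (x * e * x⁻¹) = x * (y * e) * x⁻¹ := by group
      _ = x * (e * y) * x⁻¹ := by rw [hy]
      _ = _ := by group
  · intro hy
    calc y * e = x⁻¹ * (x * y * x⁻¹ * (x * e * x⁻¹)) * x := by group
      _ = x⁻¹ * (x * e * x⁻¹ * (x * y * x⁻¹)) * x := by rw [hy]
      _ = _ := by group

theorem cent_eq_map {e c x : K} (h : x * e * x⁻¹ = c) :
    centralizer ({c} : Set K) = (centralizer ({e} : Set K)).map (MulAut.conj x).toMonoidHom := by
  ext y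
  constructor
  · intro hy
    refine ⟨x⁻¹ * y * x, (mem_cent_conj h).2 ?_, ?_⟩
    · have : x * (x⁻¹ * y * x) * x⁻¹ = y := by group
      rwa [this]
    · change x * (x⁻¹ * y * x) * x⁻¹ = y
      group
  · rintro ⟨w, hw, rfl⟩
    exact (mem_cent_conj h).1 hw

theorem perfect_conj {e c x : K} (h : x * e * x⁻¹ = c)
    (hp : ⁅centralizer ({c} : Set K), centralizer ({c} : Set K)⁆ = centralizer ({c} : Set K)) :
    ⁅centralizer ({e} : Set K), centralizer ({e} : Set K)⁆ = centralizer ({e} : Set K) := by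
  have h' : x⁻¹ * c * x⁻¹⁻¹ = e := by rw [← h]; group
  rw [cent_eq_map h', ← map_commutator, hp]

section

variable (C : Cov z π) {k : ℕ → K} (hk : Lifts π k) (S : Tb z k)

include C hk S

theorem cent_z (c : K) : centralizer ({c * z} : Set K) = centralizer ({c} : Set K) := by
  ext y
  rw [mem_centralizer_singleton_iff, mem_centralizer_singleton_iff]
  constructor
  · intro h
    have h1 : y * c * z = c * y * z := by
      calc y * c * z = y * (c * z) := by group
        _ = c * (z * y) := by rw [h]; group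
        _ = c * y * z := by rw [C.zc]; group
    exact mul_right_cancel h1
  · intro h
    calc y * (c * z) = y * c * z := by group
      _ = c * (y * z) := by rw [h]; group
      _ = c * z * y := by rw [← C.zc]; group

/-- the involutions of `K` -/
theorem inv_cases {e : K} (hee : e * e = 1) (he1 : e ≠ 1) (hez : e ≠ z) :
    ∃ x, x * e * x⁻¹ = k 10 ∨ x * e * x⁻¹ = k 10 * z := by
  have hp1 : (π e : GL6) ≠ 1 := by
    intro h
    rcases C.ker e (Subtype.ext h) with h | h
    · exact he1 h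
    · exact hez h
  have hp2 : (π e : GL6) * π e = 1 := by rw [← Subgroup.coe_mul, ← map_mul, hee, map_one]; rfl
  rcases conj_inv (π e).2 hp2 hp1 with ⟨g, hg, h⟩ | ⟨g, hg, h⟩
  · obtain ⟨x, hx⟩ := exists_lift C g hg
    refine ⟨x, eq_or' C ?_⟩
    rw [map_mul, map_mul, map_inv, Subgroup.coe_mul, Subgroup.coe_mul, Subgroup.coe_inv, hx, h,
      coe_k C hk S (by norm_num)]
    rfl
  · exfalso
    obtain ⟨x, hx⟩ := exists_lift C g hg
    have h1 : x * e * x⁻¹ = k 6 ∨ x * e * x⁻¹ = k 6 * z := by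
      apply eq_or' C
      rw [map_mul, map_mul, map_inv, Subgroup.coe_mul, Subgroup.coe_mul, Subgroup.coe_inv, hx, h,
        coe_k C hk S (by norm_num)]
      rfl
    have h2 : x * e * x⁻¹ * (x * e * x⁻¹) = 1 := by
      calc x * e * x⁻¹ * (x * e * x⁻¹) = x * (e * e) * x⁻¹ := by group
        _ = 1 := by rw [hee]; group
    have h6 := k6_sq C hk S
    rcases h1 with h1 | h1
    · rw [h1, h6] at h2; exact C.z1 h2
    · rw [h1] at h2
      have h3 : k 6 * z * (k 6 * z) = z := by
        calc k 6 * z * (k 6 * z) = k 6 * (z * k 6) * z := by group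
          _ = k 6 * k 6 * (z * z) := by rw [C.zc]; group
          _ = z := by rw [h6, C.zz, mul_one]
      rw [h3] at h2
      exact C.z1 h2

/-- the square roots of `z` in `K` -/
theorem root_cases {v : K} (hv : v * v = z) : ∃ x, x * v * x⁻¹ = k 6 ∨ x * v * x⁻¹ = k 6 * z := by
  have hp1 : (π v : GL6) ≠ 1 := by
    intro h
    rcases C.ker v (Subtype.ext h) with h | h
    · rw [h, one_mul] at hv; exact C.z1 hv.symm
    · rw [h, C.zz] at hv; exact C.z1 hv.symm
  have hp2 : (π v : GL6) * π v = 1 := by rw [← Subgroup.coe_mul, ← map_mul, hv, C.pz]; rfl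
  rcases conj_inv (π v).2 hp2 hp1 with ⟨g, hg, h⟩ | ⟨g, hg, h⟩
  · exfalso
    obtain ⟨x, hx⟩ := exists_lift C g hg
    have h1 : x * v * x⁻¹ = k 10 ∨ x * v * x⁻¹ = k 10 * z := by
      apply eq_or' C
      rw [map_mul, map_mul, map_inv, Subgroup.coe_mul, Subgroup.coe_mul, Subgroup.coe_inv, hx, h,
        coe_k C hk S (by norm_num)]
      rfl
    have h2 : x * v * x⁻¹ * (x * v * x⁻¹) = z := by
      calc x * v * x⁻¹ * (x * v * x⁻¹) = x * (v * v) * x⁻¹ := by group
        _ = z := by rw [hv, ← C.zc]; group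
    have h10 := k10_sq C hk S
    rcases h1 with h1 | h1
    · rw [h1, h10] at h2; exact C.z1 h2.symm
    · rw [h1] at h2
      have h3 : k 10 * z * (k 10 * z) = 1 := by
        calc k 10 * z * (k 10 * z) = k 10 * (z * k 10) * z := by group
          _ = k 10 * k 10 * (z * z) := by rw [C.zc]; group
          _ = 1 := by rw [h10, C.zz, mul_one]
      rw [h3] at h2
      exact C.z1 h2.symm
  · obtain ⟨x, hx⟩ := exists_lift C g hg
    refine ⟨x, eq_or' C ?_⟩
    rw [map_mul, map_mul, map_inv, Subgroup.coe_mul, Subgroup.coe_mul, Subgroup.coe_inv, hx, h,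
      coe_k C hk S (by norm_num)]
    rfl

theorem conj_inv_K {e e' : K} (hee : e * e = 1) (he1 : e ≠ 1) (hez : e ≠ z) (hee' : e' * e' = 1)
    (he1' : e' ≠ 1) (hez' : e' ≠ z) : ∃ x : K, x * e * x⁻¹ = e' ∨ x * e * x⁻¹ = e' * z := by
  obtain ⟨x, hx⟩ := inv_cases C hk S hee he1 hez
  obtain ⟨y, hy⟩ := inv_cases C hk S hee' he1' hez'
  refine ⟨y⁻¹ * x, ?_⟩
  have h0 : y⁻¹ * x * e * (y⁻¹ * x)⁻¹ = y⁻¹ * (x * e * x⁻¹) * y := by group
  have hz : ∀ w : K, y⁻¹ * (w * z) * y = y⁻¹ * w * y * z := by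
    intro w
    calc y⁻¹ * (w * z) * y = y⁻¹ * w * (z * y) := by group
      _ = _ := by rw [C.zc]; group
  have hc : ∀ w : K, y * e' * y⁻¹ = w → y⁻¹ * w * y = e' := by
    intro w hw; rw [← hw]; group
  rw [h0]
  rcases hx with hx | hx <;> rcases hy with hy | hy
  · left; rw [hx]; exact hc _ hy
  · right
    rw [hx]
    have h1 := hc _ hy
    rw [hz] at h1
    calc y⁻¹ * k 10 * y = y⁻¹ * k 10 * y * (z * z) := by rw [C.zz, mul_one]
      _ = _ := by rw [← mul_assoc, h1]
  · right; rw [hx, hz, hc _ hy]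
  · left; rw [hx]; exact hc _ hy

theorem cperf_K {e : K} (hee : e * e = 1) (he1 : e ≠ 1) (hez : e ≠ z) :
    ⁅centralizer ({e} : Set K), centralizer ({e} : Set K)⁆ = centralizer ({e} : Set K) := by
  obtain ⟨x, hx | hx⟩ := inv_cases C hk S hee he1 hez
  · exact perfect_conj hx (perfect10 C hk S)
  · refine perfect_conj hx ?_
    rw [cent_z C hk S]
    exact perfect10 C hk S

theorem label_K {e : K} (hee : e * e = 1) (he1 : e ≠ 1) (hez : e ≠ z)
    (θ : centralizer ({e} : Set K) ≃* centralizer ({e} : Set K)) :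
    ((θ ⟨e, mem_centralizer_singleton_iff.2 rfl⟩ : centralizer ({e} : Set K)) : K) ≠ z := by
  intro hθ
  obtain ⟨x, hx⟩ := inv_cases C hk S hee he1 hez
  obtain ⟨c, hc⟩ : ∃ c, x * e * x⁻¹ = c := ⟨_, rfl⟩
  rw [hc] at hx
  have hcP : centralizer ({c} : Set K) = pre π P := by
    rcases hx with h | h
    · rw [h, cent10_eq C hk S]
    · rw [h, cent_z C hk S, cent10_eq C hk S]
  have hmem : ∀ y, y ∈ centralizer ({e} : Set K) ↔ x * y * x⁻¹ ∈ pre π P := by
    intro y; rw [← hcP]; exact mem_cent_conj hc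
  -- the isomorphism
  let φ : centralizer ({e} : Set K) ≃* pre π P :=
    { toFun := fun y => ⟨x * y * x⁻¹, (hmem y).1 y.2⟩
      invFun := fun y => ⟨x⁻¹ * y * x, (hmem _).2 (by
        have : x * (x⁻¹ * (y : K) * x) * x⁻¹ = y := by group
        rw [this]; exact y.2)⟩
      left_inv := fun y => Subtype.ext (by
        change x⁻¹ * (x * (y : K) * x⁻¹) * x = y
        group)
      right_inv := fun y => Subtype.ext (by
        change x * (x⁻¹ * (y : K) * x) * x⁻¹ = y
        group)
      map_mul' := fun a b => Subtype.ext (by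
        change x * ((a : K) * b) * x⁻¹ = x * a * x⁻¹ * (x * b * x⁻¹)
        group) }
  have hcm : c ∈ pre π P := by
    rw [← hcP]; exact mem_centralizer_singleton_iff.2 rfl
  refine label C hk S hx ((φ.symm.trans θ).trans φ) hcm ?_
  have h1 : φ.symm ⟨c, hcm⟩ = ⟨e, mem_centralizer_singleton_iff.2 rfl⟩ := Subtype.ext (by
    change x⁻¹ * c * x = e
    rw [← hc]; group)
  change ((φ (θ (φ.symm ⟨c, hcm⟩)) : pre π P) : K) = z
  rw [h1]
  change x * ((θ ⟨e, mem_centralizer_singleton_iff.2 rfl⟩ : centralizer ({e} : Set K)) : K) * x⁻¹ = z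
  rw [hθ, ← C.zc]; group

theorem root_K {v : K} (hv : v * v = z) : ∃ W : Subgroup K, ⁅W, W⁆ = W ∧ z ∈ W ∧ ∀ w ∈ W, w * v = v * w := by
  obtain ⟨W, hW, hzW, hc⟩ := root6 C hk S
  obtain ⟨x, hx⟩ := root_cases C hk S hv
  refine ⟨W.map (MulAut.conj x⁻¹).toMonoidHom, ?_, ?_, ?_⟩
  · rw [← map_commutator, hW]
  · exact ⟨z, hzW, by change x⁻¹ * z * x⁻¹⁻¹ = z; rw [← C.zc]; group⟩
  · rintro _ ⟨w, hw, rfl⟩
    change x⁻¹ * w * x⁻¹⁻¹ * v = v * (x⁻¹ * w * x⁻¹⁻¹)
    have h1 : w * (x * v * x⁻¹) = x * v * x⁻¹ * w := by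
      rcases hx with h | h
      · rw [h]; exact hc w hw
      · rw [h]
        calc w * (k 6 * z) = w * k 6 * z := by group
          _ = k 6 * (w * z) := by rw [hc w hw]; group
          _ = k 6 * z * w := by rw [← C.zc]; group
    calc x⁻¹ * w * x⁻¹⁻¹ * v = x⁻¹ * (w * (x * v * x⁻¹)) * x := by group
      _ = x⁻¹ * (x * v * x⁻¹ * w) * x := by rw [h1]
      _ = _ := by group

end

/-! ### Automorphisms -/

theorem center_L {c : L} (hc : ∀ x : L, c * x = x * c) : c = 1 :=
  Cfsg.Agent.GTwoFour.RedAut.center_triv Cfsg.Agent.StdG24.Ax6.ax6 hc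

theorem cen_K (C : Cov z π) {x : K} (hx : ∀ y, x * y = y * x) : x = 1 ∨ x = z := by
  apply C.ker
  apply center_L
  intro y
  obtain ⟨w, rfl⟩ := C.surj y
  rw [← map_mul, ← map_mul, hx]

theorem aut_z (C : Cov z π) (α : MulAut K) : α z = z := by
  have h1 : ∀ y, α z * y = y * α z := by
    intro y
    obtain ⟨w, rfl⟩ := α.surjective y
    rw [← map_mul, ← map_mul, C.zc]
  rcases cen_K C h1 with h | h
  · exact absurd (α.injective (h.trans (map_one α).symm)) C.z1
  · exact h

/-- the automorphism of `L` induced by an automorphism of `K` -/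
theorem exists_induced (C : Cov z π) (α : MulAut K) : ∃ β : MulAut L, ∀ x, β (π x) = π (α x) := by
  have hker : ∀ (γ : MulAut K) (x y : K), π x = π y → π (γ x) = π (γ y) := by
    intro γ x y h
    rcases C.eq_or h with h1 | h1
    · rw [h1]
    · rw [h1, map_mul, aut_z C γ, map_mul, C.pz, mul_one]
  obtain ⟨f, hf⟩ : ∃ f : MulAut K → L → L, ∀ γ x, f γ (π x) = π (γ x) :=
    ⟨fun γ y => π (γ (C.surj y).choose), fun γ x => hker γ _ _ (C.surj (π x)).choose_spec⟩
  refine ⟨{ toFun := f α, invFun := f α⁻¹, left_inv := ?_, right_inv := ?_, map_mul' := ?_ }, hf α⟩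
  · intro y
    obtain ⟨x, rfl⟩ := C.surj y
    rw [hf, hf, MulAut.inv_apply_self]
  · intro y
    obtain ⟨x, rfl⟩ := C.surj y
    rw [hf, hf, MulAut.apply_inv_self]
  · intro y y'
    obtain ⟨x, rfl⟩ := C.surj y
    obtain ⟨x', rfl⟩ := C.surj y'
    rw [← map_mul, hf, hf, hf, map_mul, map_mul]

/-- an automorphism of a perfect cover trivial on the quotient is trivial -/
theorem eq_one_of_induced (C : Cov z π) (hp : commutator K = ⊤) {α : MulAut K}
    (h : ∀ x, π (α x) = π x) : ∀ x, α x = x := by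
  have h1 : ∀ x, ∃ c : K, (∀ y, c * y = y * c) ∧ α x = x * c := by
    intro x
    rcases C.eq_or (h x) with h2 | h2
    · exact ⟨1, fun y => by rw [one_mul, mul_one], by rw [h2, mul_one]⟩
    · exact ⟨z, C.zc, h2⟩
  have h2 : (⊤ : Subgroup K) ≤ (MonoidHom.eqLocus α.toMonoidHom (MonoidHom.id K)) := by
    rw [← hp, commutator_def, commutator_le]
    intro x _ y _
    obtain ⟨c, hc, hcx⟩ := h1 x
    obtain ⟨d, hd, hdy⟩ := h1 y
    change α ⁅x, y⁆ = ⁅x, y⁆
    rw [map_commutatorElement, hcx, hdy]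
    exact Cfsg.Agent.McLLyComp.CoverMT.comm_mul hc hd
  exact fun x => h2 (mem_top x)

/-- an automorphism inducing an inner automorphism is inner -/
theorem inner_of_induced (C : Cov z π) (hp : commutator K = ⊤) {α : MulAut K} {c : K}
    (h : ∀ x, π (α x) = π c * π x * (π c)⁻¹) : α = MulAut.conj c := by
  have h1 := eq_one_of_induced C hp (α := (MulAut.conj c)⁻¹ * α) (by
    intro x
    have h2 : ((MulAut.conj c)⁻¹ * α) x = c⁻¹ * α x * c := by
      rw [MulAut.mul_apply, ← map_inv, MulAut.conj_apply, inv_inv]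
    rw [h2, map_mul, map_mul, h, map_inv]
    group)
  ext x
  have h3 := h1 x
  rw [MulAut.mul_apply] at h3
  have h4 := congrArg (MulAut.conj c) h3
  rwa [MulAut.apply_inv_self] at h4

/-- the inputs on automorphisms of `L = G₂(4)` -/
structure AutL (sg : MulAut L) : Prop where
  sg0 : ∀ r : Fin 12, sg ⟨gx r 0, gx_mem r 0⟩ = ⟨gx r 0, gx_mem r 0⟩
  sg1 : ∀ r : Fin 12, sg ⟨gx r 1, gx_mem r 1⟩ = ⟨gx r 2, gx_mem r 2⟩
  outer_conj : ∀ b : MulAut L, (∀ x, b (b x) = x) → (¬ ∃ c, ∀ x, b x = c * x * c⁻¹) →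
    ∃ g : L, ∀ x, b x = g * sg (g⁻¹ * x * g) * g⁻¹
  sq_inner : ∀ b : MulAut L, ∃ c, ∀ x, b (b x) = c * x * c⁻¹
  /-- `SL₃(2)` -/
  sub : ∃ Y : Subgroup L, ⁅Y, Y⁆ = Y ∧ (∀ y ∈ Y, sg y = y) ∧ (⟨gx 6 0, gx_mem 6 0⟩ : L) ∈ Y ∧
    (⟨gx 10 0, gx_mem 10 0⟩ : L) ∈ Y

theorem exp2_K (C : Cov z π) (hp : commutator K = ⊤) {sg : MulAut L} (A : AutL sg) (α : MulAut K) :
    ∃ c, α * α = MulAut.conj c := by
  obtain ⟨β, hβ⟩ := exists_induced C α
  obtain ⟨c, hc⟩ := A.sq_inner β
  obtain ⟨d, rfl⟩ := C.surj c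
  refine ⟨d, inner_of_induced C hp fun x => ?_⟩
  rw [MulAut.mul_apply, ← hβ, ← hβ, hc]

section

variable (C : Cov z π) {k : ℕ → K} (hk : Lifts π k) (S : Tb z k) {sg : MulAut L} (A : AutL sg)

include C hk S A

/-- the case of an automorphism inducing the field automorphism -/
theorem out_sg (hp : commutator K = ⊤) {α : MulAut K} (hα : ∀ x, α (α x) = x)
    (hs : ∀ x, π (α x) = sg (π x)) :
    ∃ c, α c * c⁻¹ ≠ 1 ∧ ∃ W : Subgroup K, ⁅W, W⁆ = W ∧ (∀ w ∈ W, α w = w) ∧ α c * c⁻¹ ∈ W := by
  have hgen : ∀ i < 12, π (k i) = ⟨gx (rt i) (tt i), gx_mem _ _⟩ := fun i hi => hk.lift i hi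
  -- the perfect subgroup
  obtain ⟨Y, hY, hYs, h6, h10⟩ := A.sub
  have hW' : ∀ x ∈ Y.comap π, α x = x ∨ α x = x * z := by
    intro x hx
    apply C.eq_or
    rw [hs, hYs _ hx]
  set B : Subgroup K := Y.comap π with hB
  set W : Subgroup K := ⁅B, B⁆ with hW
  have hBW : ∀ x ∈ B, ∃ w ∈ W, ∃ c : K, (∀ y, c * y = y * c) ∧ x = w * c := by
    intro x hx
    have h1 : (π x) ∈ (⁅B, B⁆ : Subgroup K).map π := by
      rw [map_commutator, map_comap_eq_self_of_surjective C.surj, hY]; exact hx
    obtain ⟨w, hw, hwx⟩ := h1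
    rcases C.eq_or hwx.symm with h | h
    · exact ⟨w, hw, 1, fun y => by rw [one_mul, mul_one], by rw [mul_one]; exact h⟩
    · exact ⟨w, hw, z, C.zc, h⟩
  have hWp : ⁅W, W⁆ = W := by
    refine le_antisymm (commutator_le_self _) ?_
    rw [hW, commutator_le]
    intro x hx y hy
    obtain ⟨w, hw, c, hc, rfl⟩ := hBW x hx
    obtain ⟨v, hv, d, hd, rfl⟩ := hBW y hy
    rw [Cfsg.Agent.McLLyComp.CoverMT.comm_mul hc hd]
    exact commutator_mem_commutator hw hv
  have hWα : ∀ w ∈ W, α w = w := by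
    have h1 : W ≤ MonoidHom.eqLocus α.toMonoidHom (MonoidHom.id K) := by
      rw [hW, commutator_le]
      intro x hx y hy
      change α ⁅x, y⁆ = ⁅x, y⁆
      rw [map_commutatorElement]
      have h2 : ∀ x ∈ B, ∃ c : K, (∀ y, c * y = y * c) ∧ α x = x * c := by
        intro x hx
        rcases hW' x hx with h | h
        · exact ⟨1, fun y => by rw [one_mul, mul_one], by rw [mul_one]; exact h⟩
        · exact ⟨z, C.zc, h⟩
      obtain ⟨c, hc, hcx⟩ := h2 x hx
      obtain ⟨d, hd, hdy⟩ := h2 y hy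
      rw [hcx, hdy]
      exact Cfsg.Agent.McLLyComp.CoverMT.comm_mul hc hd
    exact fun w hw => h1 hw
  -- `k 10 ∈ W`
  have c1 := cm0 S (i := 2) (l := 8) (A := [10]) (by norm_num) rfl
  simp only [vl_cons, vl_nil, mul_one] at c1
  have hk10 : ⁅k 8, k 2⁆ = k 10 := by
    have ha := (k10_comm C hk S (i := 2) (by norm_num)).symm
    have hb := (k10_comm C hk S (i := 8) (by norm_num)).symm
    have h3 : k 2 * k 8 * k 10 = k 10 * (k 2 * k 8) := by
      rw [← mul_assoc (k 10), ha, mul_assoc (k 2) (k 10), hb, ← mul_assoc]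
    rw [commutatorElement_def, c1, h3]
    group
  have m8 : k 8 ∈ B := by
    rw [hB, mem_comap, hgen 8 (by norm_num)]; exact h10
  have m2 : k 2 ∈ B := by
    rw [hB, mem_comap, hgen 2 (by norm_num)]; exact h6
  have m10 : k 10 ∈ W := by rw [← hk10]; exact commutator_mem_commutator m8 m2
  have hk10ne : k 10 ≠ 1 := by
    intro h
    have h1 := coe_k C hk S (i := 10) (by norm_num)
    rw [h, map_one] at h1
    exact gx_ne _ _ h1.symm
  -- the action on `k 11`
  have hX : ∀ r : Fin 12, gx r 2 = gx r 0 * gx r 1 := by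
    intro r
    have h6 : cw [(r, 2)] = cw [(r, 0), (r, 1)] := by revert r; decide +kernel
    have := ev_eq_of h6
    rw [ev_singleton] at this
    rw [this, show [(r, (0 : Fin 3)), (r, 1)] = [(r, 0)] ++ [(r, 1)] from rfl, ev_append,
      ev_singleton, ev_singleton]
  have hsg2 : ∀ i, i + 1 < 12 → rt (i + 1) = rt i → tt i = 0 → tt (i + 1) = 1 →
      α (k (i + 1)) = k i * k (i + 1) ∨ α (k (i + 1)) = k i * k (i + 1) * z := by
    intro i hi h1 h2 h3
    apply C.eq_or
    rw [hs, map_mul, hgen i (by omega), hgen (i + 1) hi]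
    have h4 : (⟨gx (rt (i + 1)) (tt (i + 1)), gx_mem _ _⟩ : L) = ⟨gx (rt i) 1, gx_mem _ _⟩ := by
      apply Subtype.ext
      change gx (rt (i + 1)) (tt (i + 1)) = gx (rt i) 1
      rw [h1, h3]
    have h5 : (⟨gx (rt i) (tt i), gx_mem _ _⟩ : L) = ⟨gx (rt i) 0, gx_mem _ _⟩ := by
      apply Subtype.ext
      change gx (rt i) (tt i) = gx (rt i) 0
      rw [h2]
    rw [h4, h5, A.sg1]
    apply Subtype.ext
    exact hX (rt i)
  have hsg0 : ∀ i, i < 12 → tt i = 0 → α (k i) = k i ∨ α (k i) = k i * z := by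
    intro i hi h2
    apply C.eq_or
    rw [hs, hgen i hi]
    have h5 : (⟨gx (rt i) (tt i), gx_mem _ _⟩ : L) = ⟨gx (rt i) 0, gx_mem _ _⟩ := by
      apply Subtype.ext
      change gx (rt i) (tt i) = gx (rt i) 0
      rw [h2]
    rw [h5, A.sg0]
  -- `α (k 6) = k 6 z`
  have h66 := k6_sq C hk S
  have h6z : α (k 6) = k 6 * z := by
    have hz := aut_z C α
    have h7 := hsg2 6 (by norm_num) rfl rfl rfl
    have h8 : k 7 = α (k 6) * k 6 * k 7 := by
      rcases h7 with h7 | h7
      · calc k 7 = α (α (k 7)) := (hα _).symm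
          _ = α (k 6) * (k 6 * k 7) := by rw [h7, map_mul, h7]
          _ = _ := by group
      · calc k 7 = α (α (k 7)) := (hα _).symm
          _ = α (k 6) * (k 6 * k 7 * z) * z := by rw [h7, map_mul, map_mul, h7, hz]
          _ = α (k 6) * k 6 * k 7 * (z * z) := by group
          _ = _ := by rw [C.zz, mul_one]
    have h9 : α (k 6) * k 6 = 1 := mul_eq_right.1 h8.symm
    calc α (k 6) = α (k 6) * (k 6 * (k 6 * z)) := by rw [← mul_assoc (k 6), h66, C.zz, mul_one]
      _ = α (k 6) * k 6 * (k 6 * z) := by group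
      _ = k 6 * z := by rw [h9, one_mul]
  have s11 : k 11 * k 11 = 1 := sq0 S rfl
  rcases hsg2 10 (by norm_num) rfl rfl rfl with h11 | h11
  · refine ⟨k 11, ?_, W, hWp, hWα, ?_⟩
    · rw [h11, mul_inv_cancel_right]; exact hk10ne
    · rw [h11, mul_inv_cancel_right]; exact m10
  · have h12 : α (k 11 * k 6) * (k 11 * k 6)⁻¹ = k 10 := by
      rw [map_mul, h11, h6z]
      calc k 10 * k 11 * z * (k 6 * z) * (k 11 * k 6)⁻¹
          = k 10 * k 11 * (z * k 6) * z * (k 6)⁻¹ * (k 11)⁻¹ := by group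
        _ = k 10 * k 11 * k 6 * (z * z) * (k 6)⁻¹ * (k 11)⁻¹ := by rw [C.zc]; group
        _ = k 10 := by rw [C.zz]; group
    refine ⟨k 11 * k 6, ?_, W, hWp, hWα, ?_⟩
    · rw [h12]; exact hk10ne
    · rw [h12]; exact m10

theorem out_K (hp : commutator K = ⊤) {α : MulAut K} (hα : ∀ x, α (α x) = x)
    (ho : ∀ c, α ≠ MulAut.conj c) :
    ∃ c, α c * c⁻¹ ≠ 1 ∧ ∃ W : Subgroup K, ⁅W, W⁆ = W ∧ (∀ w ∈ W, α w = w) ∧ α c * c⁻¹ ∈ W := by
  obtain ⟨β, hβ⟩ := exists_induced C α
  have h1 : ∀ x, β (β x) = x := by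
    intro x
    obtain ⟨y, rfl⟩ := C.surj x
    rw [hβ, hβ, hα]
  have h2 : ¬ ∃ c, ∀ x, β x = c * x * c⁻¹ := by
    rintro ⟨c, hc⟩
    obtain ⟨d, rfl⟩ := C.surj c
    exact ho d (inner_of_induced C hp fun x => by rw [← hβ, hc])
  obtain ⟨g, hg⟩ := A.outer_conj β h1 h2
  obtain ⟨y, rfl⟩ := C.surj g
  set γ : MulAut K := (MulAut.conj y)⁻¹ * α * MulAut.conj y with hγ
  have hγx : ∀ x, γ x = y⁻¹ * α (y * x * y⁻¹) * y := by
    intro x
    rw [hγ, MulAut.mul_apply, MulAut.mul_apply, ← map_inv, MulAut.conj_apply, MulAut.conj_apply, inv_inv]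
  obtain ⟨c, hc1, W, hW, hWγ, hcW⟩ := out_sg C hk S A hp (α := γ) (by
    intro x
    rw [hγx, hγx]
    have : y * (y⁻¹ * α (y * x * y⁻¹) * y) * y⁻¹ = α (y * x * y⁻¹) := by group
    rw [this, hα]
    group) (by
    intro x
    have e0 : π (y * x * y⁻¹) = π y * π x * (π y)⁻¹ := by rw [map_mul, map_mul, map_inv]
    have e1 : π (α (y * x * y⁻¹)) = β (π y * π x * (π y)⁻¹) := by rw [← hβ, e0]
    have e2 : (π y)⁻¹ * (π y * π x * (π y)⁻¹) * π y = π x := by group
    rw [hγx, map_mul, map_mul, map_inv, e1, hg, e2]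
    group)
  have h3 : α (y * c * y⁻¹) * (y * c * y⁻¹)⁻¹ = y * (γ c * c⁻¹) * y⁻¹ := by
    rw [hγx]; group
  refine ⟨y * c * y⁻¹, ?_, W.map (MulAut.conj y).toMonoidHom, ?_, ?_, ?_⟩
  · rw [h3]
    intro h
    apply hc1
    calc γ c * c⁻¹ = y⁻¹ * (y * (γ c * c⁻¹) * y⁻¹) * y := by group
      _ = 1 := by rw [h]; group
  · rw [← map_commutator, hW]
  · rintro _ ⟨w, hw, rfl⟩
    change α (y * w * y⁻¹) = y * w * y⁻¹
    have h4 := hWγ w hw
    rw [hγx] at h4
    calc α (y * w * y⁻¹) = y * (y⁻¹ * α (y * w * y⁻¹) * y) * y⁻¹ := by group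
      _ = _ := by rw [h4]
  · rw [h3]
    exact ⟨_, hcW, rfl⟩

end

/-- **The facts on perfect double covers of `G₂(4)`.** -/
theorem kfacts (C : Cov z π) (hp : commutator K = ⊤) {sg : MulAut L} (A : AutL sg) :
    Def.KFacts z := by
  obtain ⟨k, hk, S⟩ := exists_table_true C hp
  exact
    { zz := C.zz
      z1 := C.z1
      zc := fun y => (C.zc y).symm
      cen := fun x hx => cen_K C hx
      perf := hp
      conj := fun e e' h1 h2 h3 h4 h5 h6 => conj_inv_K C hk S h1 h2 h3 h4 h5 h6
      cperf := fun e h1 h2 h3 => cperf_K C hk S h1 h2 h3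
      label := fun e h1 h2 h3 θ => label_K C hk S h1 h2 h3 θ
      root := fun v hv => root_K C hk S hv
      out := fun α h1 h2 => out_K C hk S A hp h1 h2
      exp2 := fun α => exp2_K C hp A α }

end Cfsg.Agent.OddHalf.D9.G24.KFacts

end
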