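import Cfsg.Agent.OddHalf.D9.G24.KFacts
import Cfsg.Agent.OddHalf.D9.Cut
import Cfsg.Agent.StdG24.Iso6
import Cfsg.Agent.OddHalf.D9.M12Glue
import Cfsg.Agent.OddHalf.Front.FE
import Cfsg.Agent.OddHalf.D9.Kill
import Cfsg.Agent.Schreier.Basic
import Cfsg.Agent.J2Type.SimpleRed
import Cfsg.Agent.OddHalf.D9.KillAny
import Cfsg.Agent.Schreier.Chev

-- merged: Cfsg.Agent.OddHalf.D9.G24.Glue
section

/-!
# From `K / Z(K) ≅ G₂(4)`, `|Z(K)| = 2` to the model
-/

set_option autoImplicit false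

namespace Cfsg.Agent.OddHalf.D9.G24.Glue

open Subgroup
open Cfsg.Agent.StdG24.Mod6 Cfsg.Agent.OddHalf.D9.G24.Cover

universe u

/-- a group with centre of order two and central quotient `G₂(4)` -/
theorem exists_cov {K : Type u} [Group K] (hc : Nat.card ↥(center K) = 2)
    (hX : Cut.XG24 (K ⧸ center K)) : ∃ (z : K) (π : K →* L), Cov z π ∧ ∀ x, π x = 1 ↔ x ∈ center K := by
  obtain ⟨F, i1, i2, hF, ⟨e⟩⟩ := hX
  obtain ⟨f⟩ := Cfsg.Agent.StdG24.Iso6.equiv_chev F hF
  let π : K →* L := (e.trans f.symm).toMonoidHom.comp (QuotientGroup.mk' (center K))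
  have hπ : ∀ x, π x = 1 ↔ x ∈ center K := by
    intro x
    change (e.trans f.symm) (QuotientGroup.mk' (center K) x) = 1 ↔ _
    rw [map_eq_one_iff _ (e.trans f.symm).injective]
    exact QuotientGroup.eq_one_iff x
  have hcc : (center K : Set K).ncard = 2 := hc
  obtain ⟨a, b, hab, hs⟩ := Set.ncard_eq_two.1 hcc
  -- the nontrivial element
  obtain ⟨z, hz1, hz⟩ : ∃ z : K, z ≠ 1 ∧ (center K : Set K) = {1, z} := by
    have h1 : (1 : K) ∈ (center K : Set K) := one_mem _
    rw [hs] at h1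
    rcases h1 with h | h
    · exact ⟨b, fun hb => hab (h.symm.trans hb.symm), by rw [hs, ← h]⟩
    · have h' : (1 : K) = b := h
      exact ⟨a, fun ha => hab (ha.trans h'), by rw [hs, ← h', Set.pair_comm]⟩
  have hzc : z ∈ center K := by
    have : z ∈ (center K : Set K) := by rw [hz]; exact Or.inr rfl
    exact this
  refine ⟨z, π, ⟨?_, (hπ z).2 hzc, ?_, hz1, fun x => (mem_center_iff.1 hzc x).symm⟩, hπ⟩
  · intro y
    obtain ⟨x, hx⟩ := QuotientGroup.mk'_surjective (center K) ((e.trans f.symm).symm y)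
    exact ⟨x, by change (e.trans f.symm) (QuotientGroup.mk' (center K) x) = y; rw [hx]; simp⟩
  · intro x hx
    have h1 : x ∈ (center K : Set K) := (hπ x).1 hx
    rw [hz] at h1
    exact h1

/-- **The K-facts of a perfect group with centre of order two and central quotient `G₂(4)`.** -/
theorem exists_kfacts {K : Type u} [Group K] (hc : Nat.card ↥(center K) = 2)
    (hX : Cut.XG24 (K ⧸ center K)) (hp : commutator K = ⊤) {sg : MulAut L} (A : KFacts.AutL sg) :
    ∃ z : K, z ∈ center K ∧ Def.KFacts z := by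
  obtain ⟨z, π, C, hπ⟩ := exists_cov hc hX
  exact ⟨z, (hπ z).1 C.pz, KFacts.kfacts C hp A⟩

end Cfsg.Agent.OddHalf.D9.G24.Glue

end

-- merged: Cfsg.Agent.OddHalf.D9.AmbOf
section

/-!
# D9: the frame `M12Glue.Amb` from `Ctx`, `Std`, `Cyc`

`amb_of`: `K` standard of maximal order, `C(K)` with cyclic Sylow 2-subgroups, `z` an involution of `Z(K)`:
`K ⊴ C(z)`, `C(K)` is a cyclic 2-group whose involution is `z`.
`row_two`: a row of D9 with `|Z(K)| = 2` from a `K`-free kill and facts on `K`.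
-/

set_option autoImplicit false

namespace Cfsg.Agent.OddHalf.D9.AmbOf

open Subgroup Cfsg Cfsg.Agent.OddHalf.Iface Cfsg.Agent.OddHalf.Front.FE Cfsg.Agent.OddHalf.D9.M12Glue

universe u

variable {G : Type u} [Group G]

theorem start_eq [Finite G] {K : Subgroup G} {t q z : G} (h : Start0 K t q) (hzK : z ∈ K)
    (hz : ∀ k ∈ K, k * z = z * k) (hz1 : z ≠ 1) (hzz : z * z = 1) : z = t :=
  h.uniq (h.cK z (h.Kt z hzK) hz) hzz hz1

theorem amb_of_start [Finite G] {K : Subgroup G} {z q : G} (h : Start0 K z q) (hzK : z ∈ K) : Amb z K := by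
  have hr : ∀ r : G, (∀ k ∈ K, r * k = k * r) → r ∈ zpowers q := fun r hr =>
    h.cK r (hr z hzK) fun x hx => (hr x hx).symm
  refine ⟨hzK, ?_, ?_, ?_, ?_⟩
  · intro x hx k hk
    exact (mem_normalizer_iff.1 (h.nK x hx) k).1 hk
  · intro r hrK
    obtain ⟨n, hn⟩ := h.pQ ⟨r, hr r hrK⟩
    exact ⟨n, congrArg Subtype.val hn⟩
  · intro r hrK hrr
    by_cases h1 : r = 1
    · exact Or.inl h1
    · exact Or.inr (h.uniq (hr r hrK) hrr h1)
  · intro r s hrK hsK
    obtain ⟨a, rfl⟩ := mem_zpowers_iff.1 (hr r hrK)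
    obtain ⟨b, rfl⟩ := mem_zpowers_iff.1 (hr s hsK)
    rw [← zpow_add, ← zpow_add, add_comm]

/-- **The frame.** -/
theorem amb_of (C : Ctx G) {K : Subgroup G} (S : Std0 G K) (hc : Cyc K) {z : G} (hzK : z ∈ K)
    (hz : ∀ k ∈ K, k * z = z * k) (hz1 : z ≠ 1) (hzz : z * z = 1) : Amb z K := by
  have := C.fin
  obtain ⟨t, q, h⟩ := exists_start0 C S hc
  obtain rfl := start_eq h hzK hz hz1 hzz
  exact amb_of_start h hzK

/-- `K` is quasisimple -/
theorem quasisimple {K : Subgroup G} (S : Std0 G K) : IsQuasisimple ↥K := S.std.1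

/-- **Rows with `|Z(K)| = 2`**: `F K z` are facts on `K` (for an involution `z ∈ Z(K)`), `kill` a contradiction at the
level of `G`. -/
theorem row_two (P : (X : Type u) → [Group X] → Prop) (F : (K : Type u) → [Group K] → K → Prop)
    (facts : ∀ (K : Type u) [Group K] [Finite K], IsQuasisimple K → Nat.card ↥(center K) = 2 →
      P (K ⧸ center K) → ∀ z : K, z ≠ 1 → z * z = 1 → (∀ y, z * y = y * z) → F K z)
    (kill : ∀ (G : Type u) [Group G], Ctx G → ∀ (K : Subgroup G) (z : G) (A : Amb z K),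
      F ↥K ⟨z, A.zK⟩ → False) : Cut.Row.{u} (fun K _ => Cut.Two P K) := by
  intro G _ C K S hc ⟨h2, hP⟩
  have := C.fin
  obtain ⟨⟨z, hz⟩, hz1, hzu⟩ := Nat.card_eq_two_iff' (1 : ↥(center ↥K)) |>.1 h2
  have hzc : ∀ y, z * y = y * z := fun y => (mem_center_iff.1 hz y).symm
  have hz1' : z ≠ 1 := fun h => hz1 (Subtype.ext h)
  have hzz : z * z = 1 := by
    by_contra hne
    have h3 := hzu (⟨z, hz⟩ * ⟨z, hz⟩) (fun h => hne (congrArg Subtype.val h))
    have h4 : z * z = z := congrArg Subtype.val h3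
    exact hz1' (mul_eq_left.1 h4)
  have A : Amb (z : G) K := amb_of C S hc z.2 (fun k hk => (congrArg Subtype.val (hzc ⟨k, hk⟩)).symm)
    (fun h => hz1' (Subtype.ext h)) (congrArg Subtype.val hzz)
  exact kill G C K z A (facts ↥K (quasisimple S) h2 hP z hz1' hzz hzc)

end Cfsg.Agent.OddHalf.D9.AmbOf

end

-- merged: Cfsg.Agent.OddHalf.D9.KillRow
section

/-!
# D9: the frame of `Kill` from `Ctx`, `Std`, `Cyc`; the rows

* `fr_of`: `K` standard of maximal order, `C(K)` with cyclic Sylow 2-subgroups, `z` an involution of `Z(K)`, `K / Z(K)`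
  with the Schreier property: the frame `Kill.Fr K z`.
* `row_two`: a row of D9 with `|Z(K)| = 2` from the facts `KF` on `K`; `row_four`: with `Z(K)` of order 4.
-/

set_option autoImplicit false

namespace Cfsg.Agent.OddHalf.D9.KillRow

open Subgroup Cfsg Cfsg.Agent.OddHalf.Iface Cfsg.Agent.OddHalf.D9.M12Glue Cfsg.Agent.OddHalf.D9.Kill
  Cfsg.Agent.Schreier.Basic
open scoped commutatorElement

universe u

/-! ### The Schreier property of a perfect central extension -/

theorem map_center {C : Type*} [Group C] (φ : MulAut C) : (center C).map φ.toMonoidHom = center C := by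
  ext x
  constructor
  · rintro ⟨y, hy, rfl⟩
    rw [mem_center_iff]
    intro g
    have h1 := mem_center_iff.1 hy (φ.symm g)
    have h2 := congrArg φ h1
    rwa [map_mul, map_mul, MulEquiv.apply_symm_apply] at h2
  · intro hx
    refine ⟨φ.symm x, ?_, MulEquiv.apply_symm_apply φ x⟩
    change φ.symm x ∈ center C
    rw [mem_center_iff]
    intro g
    apply φ.injective
    rw [map_mul, map_mul, MulEquiv.apply_symm_apply]
    exact mem_center_iff.1 hx (φ g)

/-- the action on the quotient by the centre -/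
def quo (C : Type*) [Group C] : MulAut C →* MulAut (C ⧸ center C) where
  toFun φ := QuotientGroup.congr (center C) (center C) φ (map_center φ)
  map_one' := by
    ext x
    induction x using QuotientGroup.induction_on with
    | H c => rfl
  map_mul' φ ψ := by
    ext x
    induction x using QuotientGroup.induction_on with
    | H c => rfl

theorem quo_mk {C : Type*} [Group C] (φ : MulAut C) (c : C) :
    quo C φ (QuotientGroup.mk c) = QuotientGroup.mk (φ c) := rfl

/-- the Schreier property from the quotient by the centre -/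
theorem sch_of_center {C : Type*} [Group C] (hperf : commutator C = ⊤) (h : Sch (C ⧸ center C)) : Sch C := by
  intro D hD φ hφ
  obtain ⟨y, hy⟩ := h (D.map (quo C)) (map_perfect _ hD) ⟨φ, hφ, rfl⟩
  obtain ⟨c, rfl⟩ := QuotientGroup.mk_surjective y
  have h2 : ∀ x : C, (c * x * c⁻¹)⁻¹ * φ x ∈ center C := by
    intro x
    have h3 := DFunLike.congr_fun hy (QuotientGroup.mk x)
    rw [MulAut.conj_apply, quo_mk] at h3
    rw [← QuotientGroup.eq]
    exact h3
  let δ : C →* center C :=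
    { toFun := fun x => ⟨(c * x * c⁻¹)⁻¹ * φ x, h2 x⟩
      map_one' := by
        apply Subtype.ext
        simp
      map_mul' := fun x y => by
        apply Subtype.ext
        change (c * (x * y) * c⁻¹)⁻¹ * φ (x * y) = (c * x * c⁻¹)⁻¹ * φ x * ((c * y * c⁻¹)⁻¹ * φ y)
        have h3 := mem_center_iff.1 (h2 x) (c * y * c⁻¹)⁻¹
        calc (c * (x * y) * c⁻¹)⁻¹ * φ (x * y) = (c * y * c⁻¹)⁻¹ * ((c * x * c⁻¹)⁻¹ * φ x) * φ y := by
              rw [map_mul]; group
          _ = _ := by rw [h3]; group }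
  have h4 : ∀ x, δ x = 1 := by
    intro x
    have h5 : commutator C ≤ δ.ker := by
      rw [_root_.commutator_def, commutator_le]
      intro a _ b _
      rw [MonoidHom.mem_ker, map_commutatorElement]
      exact commutatorElement_eq_one_iff_mul_comm.2 (Subtype.ext (mem_center_iff.1 (δ b).2 (δ a)))
    rw [hperf] at h5
    exact h5 (mem_top x)
  refine ⟨c, ?_⟩
  ext x
  have h5 : (c * x * c⁻¹)⁻¹ * φ x = 1 := congrArg Subtype.val (h4 x)
  rw [inv_mul_eq_one] at h5
  rw [MulAut.conj_apply, h5]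

/-! ### The frame -/

variable {G : Type u} [Group G]

/-- the action of a subgroup of `C(z)` on `K` -/
def act {K P : Subgroup G} {z : G} (hK : ∀ h, h * z = z * h → ∀ k ∈ K, h * k * h⁻¹ ∈ K)
    (hP : ∀ x ∈ P, x * z = z * x) : ↥P →* MulAut ↥K where
  toFun h :=
    { toFun := fun k => ⟨(h : G) * k * (h : G)⁻¹, hK h (hP h h.2) k k.2⟩
      invFun := fun k => ⟨(h : G)⁻¹ * k * (h : G), by
        have := hK ((h⁻¹ : ↥P) : G) (hP _ (h⁻¹).2) k k.2
        simpa using this⟩
      left_inv := fun k => Subtype.ext (by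
        change (h : G)⁻¹ * ((h : G) * k * (h : G)⁻¹) * (h : G) = k
        group)
      right_inv := fun k => Subtype.ext (by
        change (h : G) * ((h : G)⁻¹ * k * (h : G)) * (h : G)⁻¹ = k
        group)
      map_mul' := fun k k' => Subtype.ext (by
        change (h : G) * (k * k') * (h : G)⁻¹ = (h : G) * k * (h : G)⁻¹ * ((h : G) * k' * (h : G)⁻¹)
        group) }
  map_one' := by
    ext k
    change ((1 : ↥P) : G) * k * ((1 : ↥P) : G)⁻¹ = k
    simp
  map_mul' h h' := by
    ext k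
    change ((h * h' : ↥P) : G) * k * ((h * h' : ↥P) : G)⁻¹ = (h : G) * ((h' : G) * k * (h' : G)⁻¹) * (h : G)⁻¹
    rw [Subgroup.coe_mul]
    group

theorem act_apply {K P : Subgroup G} {z : G} (hK : ∀ h, h * z = z * h → ∀ k ∈ K, h * k * h⁻¹ ∈ K)
    (hP : ∀ x ∈ P, x * z = z * x) (h : ↥P) (k : ↥K) : ((act hK hP h k : ↥K) : G) = (h : G) * k * (h : G)⁻¹ := rfl

/-- perfect subgroups of `C(z)` lie in `K` -/
theorem perfect_le {K : Subgroup G} {z : G} (A : Amb z K) (hs : Sch ↥K) {P : Subgroup G}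
    (hPz : ∀ x ∈ P, x * z = z * x) (hP : ⁅P, P⁆ = P) : P ≤ K := by
  have hpt : ⁅(⊤ : Subgroup ↥P), (⊤ : Subgroup ↥P)⁆ = ⊤ := by
    apply map_injective P.subtype_injective
    rw [map_commutator, ← MonoidHom.range_eq_map, range_subtype, hP]
  have h1 : (act A.norm hPz).range ≤ (MulAut.conj : ↥K →* MulAut ↥K).range := by
    apply hs
    rw [MonoidHom.range_eq_map, ← map_commutator, hpt]
  have h2 : ∀ p ∈ P, ∃ k ∈ K, ∀ x ∈ K, (k⁻¹ * p) * x = x * (k⁻¹ * p) := by
    intro p hp
    obtain ⟨k, hk⟩ := h1 ⟨⟨p, hp⟩, rfl⟩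
    refine ⟨k, k.2, fun x hx => ?_⟩
    have h3 : MulAut.conj k ⟨x, hx⟩ = act A.norm hPz ⟨p, hp⟩ ⟨x, hx⟩ := by rw [hk]
    have h4 : (k : G) * x * (k : G)⁻¹ = p * x * p⁻¹ := congrArg Subtype.val h3
    calc (k : G)⁻¹ * p * x = (k : G)⁻¹ * (p * x * p⁻¹) * p := by group
      _ = (k : G)⁻¹ * (k * x * (k : G)⁻¹) * p := by rw [h4]
      _ = x * ((k : G)⁻¹ * p) := by group
  rw [← hP, commutator_le]
  intro p hp q hq
  obtain ⟨k, hk, hkc⟩ := h2 p hp
  obtain ⟨l, hl, hld⟩ := h2 q hq
  obtain ⟨c, hc⟩ : ∃ c, c = k⁻¹ * p := ⟨_, rfl⟩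
  obtain ⟨d, hd⟩ : ∃ d, d = l⁻¹ * q := ⟨_, rfl⟩
  rw [← hc] at hkc
  rw [← hd] at hld
  have hpc : p = k * c := by rw [hc]; group
  have hqd : q = l * d := by rw [hd]; group
  have hcd := A.comm c d (fun x hx => hkc x hx) (fun x hx => hld x hx)
  have h3 : p * q = k * l * (c * d) := by
    rw [hpc, hqd]
    calc k * c * (l * d) = k * (c * l) * d := by group
      _ = k * (l * c) * d := by rw [hkc l hl]
      _ = _ := by group
  have h4 : q * p = l * k * (c * d) := by
    rw [hpc, hqd]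
    calc l * d * (k * c) = l * (d * k) * c := by group
      _ = l * (k * d) * c := by rw [hld k hk]
      _ = l * k * (d * c) := by group
      _ = _ := by rw [hcd]
  have h5 : ⁅p, q⁆ = k * l * (l * k)⁻¹ := by
    calc ⁅p, q⁆ = p * q * (q * p)⁻¹ := by rw [commutatorElement_def]; group
      _ = _ := by rw [h3, h4]; group
  rw [h5]
  exact K.mul_mem (K.mul_mem hk hl) (K.inv_mem (K.mul_mem hl hk))

/-- an involution of a simple group commutes with another conjugate -/
theorem exists_ne [Finite G] [IsSimpleGroup G] (hna : ¬ IsMulCommutative G) {z : G} (zz : z * z = 1) (z1 : z ≠ 1) :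
    ∃ g : G, g * z * g⁻¹ ≠ z ∧ g * z * g⁻¹ * z = z * (g * z * g⁻¹) := by
  by_contra hcon
  push Not at hcon
  refine Cfsg.Agent.J2Type.SimpleRed.not_isolated z
    ⟨orderOf_eq_prime (by rw [pow_two]; exact zz) z1, fun g hg => ?_⟩ ?_
  · by_contra hne
    exact hcon g hne hg.symm
  · by_contra hcon2
    push Not at hcon2
    exact hna ⟨⟨hcon2⟩⟩

/-- **The frame.** -/
theorem fr_of_amb [Finite G] [IsSimpleGroup G] (hna : ¬ IsMulCommutative G) {K : Subgroup G} {z : G} (A : Amb z K)
    (zz : z * z = 1) (z1 : z ≠ 1) (Kz : ∀ k ∈ K, k * z = z * k) (hs : Sch ↥K) : Fr K z where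
  zz := zz
  z1 := z1
  zK := A.zK
  Kz := Kz
  nrm := A.norm
  perf _ hP hPP := perfect_le A hs (fun _ hx => hP hx) hPP
  inv e _ hee he := A.one e he hee
  ne := exists_ne hna zz z1

/-- **The frame**, from the standing hypotheses. -/
theorem fr_of (C : Ctx G) {K : Subgroup G} (S : Std0 G K) (hc : Cyc K) {z : G} (hzK : z ∈ K)
    (hz : ∀ k ∈ K, k * z = z * k) (hz1 : z ≠ 1) (hzz : z * z = 1) (hs : Sch (↥K ⧸ center ↥K)) : Fr K z := by
  have := C.fin
  have := C.simple
  exact fr_of_amb C.na (AmbOf.amb_of C S hc hzK hz hz1 hzz) hzz hz1 hz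
    (sch_of_center S.std.1.1.commutator_eq_top hs)

/-! ### The rows -/

/-- The facts on `K` for the kill. -/
def KF {K : Type u} [Group K] (z : K) : Prop := ((∃ C : Set K, PF z C) ∨ NoBad z) ∧ Outer z

theorem false_of_kf {K : Subgroup G} {z : ↥K} (F : Fr K (z : G)) (h : KF z) : False := by
  obtain ⟨⟨C, h1⟩ | h1, h2⟩ := h
  · exact F.false_pf h1 h2
  · exact F.false h1 h2

/-- the facts on the groups with `|Z(K)| = 2`, `K / Z(K)` with the property `P` -/
def Facts (P : (X : Type u) → [Group X] → Prop) : Prop :=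
  ∀ (L : Type u) [Group L] [Finite L], IsQuasisimple L → Nat.card ↥(center L) = 2 → P (L ⧸ center L) →
    ∀ c : L, c ≠ 1 → c * c = 1 → (∀ y, c * y = y * c) → KF c

/-- **Rows with `|Z(K)| = 2`.** -/
theorem row_two {P : (X : Type u) → [Group X] → Prop}
    (hs : ∀ (X : Type u) [Group X] [Finite X] [IsSimpleGroup X], ¬ IsMulCommutative X → P X → Sch X)
    (F : Facts P) : Cut.Row.{u} (fun K _ => Cut.Two P K) := by
  intro G _ C K S hc ⟨h2, hP⟩
  have := C.fin
  have := S.simple
  obtain ⟨⟨z, hz⟩, hz1, hzu⟩ := Nat.card_eq_two_iff' (1 : ↥(center ↥K)) |>.1 h2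
  have hzc : ∀ y, z * y = y * z := fun y => (mem_center_iff.1 hz y).symm
  have hz1' : z ≠ 1 := fun h => hz1 (Subtype.ext h)
  have hzz : z * z = 1 := by
    by_contra hne
    have h3 := hzu (⟨z, hz⟩ * ⟨z, hz⟩) (fun h => hne (congrArg Subtype.val h))
    have h4 : z * z = z := congrArg Subtype.val h3
    exact hz1' (mul_eq_left.1 h4)
  exact false_of_kf (fr_of C S hc z.2 (fun k hk => (congrArg Subtype.val (hzc ⟨k, hk⟩)).symm)
    (fun h => hz1' (Subtype.ext h)) (congrArg Subtype.val hzz) (hs _ S.quo_na hP))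
    (F ↥K S.std.1 h2 hP z hz1' hzz hzc)

/-- **Rows with a centre of order 4.** -/
theorem row_four {P : (X : Type u) → [Group X] → Prop}
    (hs : ∀ (X : Type u) [Group X] [Finite X] [IsSimpleGroup X], ¬ IsMulCommutative X → P X → Sch X)
    (F : ∀ (L : Type u) [Group L] [Finite L], IsQuasisimple L → Nat.card ↥(center L) = 4 → P (L ⧸ center L) →
      ∀ c : L, c ≠ 1 → c * c = 1 → (∀ y, c * y = y * c) → KF c) :
    Cut.Row.{u} (fun K _ => Nat.card ↥(center K) = 4 ∧ P (K ⧸ center K)) := by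
  intro G _ C K S hc ⟨h4, hP⟩
  have := C.fin
  have := S.simple
  have hp : Fact (Nat.Prime 2) := ⟨Nat.prime_two⟩
  obtain ⟨⟨z, hz⟩, ho⟩ := exists_prime_orderOf_dvd_card' (G := ↥(center ↥K)) 2 (by rw [h4]; norm_num)
  have hz1 : z ≠ 1 := by
    rintro rfl
    have h1 : (⟨1, hz⟩ : ↥(center ↥K)) = 1 := rfl
    rw [h1, orderOf_one] at ho
    exact absurd ho (by norm_num)
  have hzz : z * z = 1 := by
    have h1 := pow_orderOf_eq_one (⟨z, hz⟩ : ↥(center ↥K))
    rw [ho, pow_two] at h1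
    exact congrArg Subtype.val h1
  have hzc : ∀ y, z * y = y * z := fun y => (mem_center_iff.1 hz y).symm
  exact false_of_kf (fr_of C S hc z.2 (fun k hk => (congrArg Subtype.val (hzc ⟨k, hk⟩)).symm)
    (fun h => hz1 (Subtype.ext h)) (congrArg Subtype.val hzz) (hs _ S.quo_na hP))
    (F ↥K S.std.1 h4 hP z hz1 hzz hzc)

end Cfsg.Agent.OddHalf.D9.KillRow

end

-- merged: Cfsg.Agent.OddHalf.D9.G24.Row
section

/-!
# The row `2.G₂(4)` of D9

`NoBad z` and `Outer z` of `Kill` from `Def.KFacts z`; `row`: the row from `KillRow.row_two`.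
-/

set_option autoImplicit false

namespace Cfsg.Agent.OddHalf.D9.G24.Row

open Subgroup Cfsg.Agent.OddHalf.D9.Kill Cfsg.Agent.OddHalf.Iface Cfsg.Agent.Schreier.Basic
open scoped commutatorElement

universe u

variable {K : Type u} [Group K] {z : K}

theorem Ce_eq (f : K) : Ce f = centralizer ({f} : Set K) := by
  ext x
  rw [mem_Ce, mem_centralizer_singleton_iff]

theorem Pr_eq {S : Subgroup K} (h : ⁅S, S⁆ = S) : Pr S = S := le_antisymm (Pr_le _) (le_Pr le_rfl h)

theorem Pr_Ce (F : Def.KFacts z) {f : K} (hff : f * f = 1) (h1 : f ≠ 1) (hz : f ≠ z) :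
    Pr (Ce f) = centralizer ({f} : Set K) := by
  rw [Ce_eq, Pr_eq (F.cperf f hff h1 hz)]

theorem res (F : Def.KFacts z) {f : K} (hff : f * f = 1) (h1 : f ≠ 1) (hz : f ≠ z) : z ∈ Pr (Ce f) := by
  rw [Pr_Ce F hff h1 hz, mem_centralizer_singleton_iff]
  exact (F.zc f).symm

theorem cent_z (F : Def.KFacts z) (c : K) : centralizer ({c * z} : Set K) = centralizer ({c} : Set K) := by
  ext y
  rw [mem_centralizer_singleton_iff, mem_centralizer_singleton_iff]
  constructor
  · intro h
    have h1 : y * c * z = c * y * z := by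
      calc y * c * z = y * (c * z) := by group
        _ = c * (z * y) := by rw [h]; group
        _ = c * y * z := by rw [← F.zc]; group
    exact mul_right_cancel h1
  · intro h
    calc y * (c * z) = y * c * z := by group
      _ = c * (y * z) := by rw [h]; group
      _ = c * z * y := by rw [F.zc]; group

theorem noBad (F : Def.KFacts z) : NoBad z where
  res _ h1 h2 h3 := res F h1 h2 h3
  bad := by
    rintro f f' hff hf1 hfz hff' hf1' hfz' ⟨hf, hz, hf', hz', φ, h1, h2⟩
    obtain ⟨k, hk⟩ := F.conj f f' hff hf1 hfz hff' hf1' hfz'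
    have hcent : centralizer ({k * f * k⁻¹} : Set K) = centralizer ({f'} : Set K) := by
      rcases hk with hk | hk
      · rw [hk]
      · rw [hk, cent_z F]
    have hmem : ∀ y, y ∈ centralizer ({f'} : Set K) ↔ k⁻¹ * y * k ∈ centralizer ({f} : Set K) := by
      intro y
      rw [← hcent, mem_centralizer_singleton_iff, mem_centralizer_singleton_iff]
      constructor
      · intro h
        calc k⁻¹ * y * k * f = k⁻¹ * (y * (k * f * k⁻¹)) * k := by group
          _ = k⁻¹ * (k * f * k⁻¹ * y) * k := by rw [h]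
          _ = _ := by group
      · intro h
        calc y * (k * f * k⁻¹) = k * (k⁻¹ * y * k * f) * k⁻¹ := by group
          _ = k * (f * (k⁻¹ * y * k)) * k⁻¹ := by rw [h]
          _ = _ := by group
    let ψ : centralizer ({f'} : Set K) ≃* centralizer ({f} : Set K) :=
      { toFun := fun y => ⟨k⁻¹ * y * k, (hmem y).1 y.2⟩
        invFun := fun y => ⟨k * y * k⁻¹, (hmem _).2 (by
          have : k⁻¹ * (k * (y : K) * k⁻¹) * k = y := by group
          rw [this]; exact y.2)⟩
        left_inv := fun y => Subtype.ext (by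
          change k * (k⁻¹ * (y : K) * k) * k⁻¹ = y
          group)
        right_inv := fun y => Subtype.ext (by
          change k⁻¹ * (k * (y : K) * k⁻¹) * k = y
          group)
        map_mul' := fun a b => Subtype.ext (by
          change k⁻¹ * ((a : K) * b) * k = k⁻¹ * a * k * (k⁻¹ * b * k)
          group) }
    let e1 : ↥(Pr (Ce f)) ≃* centralizer ({f} : Set K) := MulEquiv.subgroupCongr (Pr_Ce F hff hf1 hfz)
    let e2 : ↥(Pr (Ce f')) ≃* centralizer ({f'} : Set K) := MulEquiv.subgroupCongr (Pr_Ce F hff' hf1' hfz')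
    refine F.label f hff hf1 hfz ((e1.symm.trans φ).trans (e2.trans ψ)) ?_
    have h3 : e1.symm ⟨f, mem_centralizer_singleton_iff.2 rfl⟩ = ⟨f, hf⟩ := rfl
    change ((ψ (e2 (φ (e1.symm ⟨f, mem_centralizer_singleton_iff.2 rfl⟩))) : centralizer ({f} : Set K)) : K) = z
    rw [h3, h1]
    change k⁻¹ * z * k = z
    rw [mul_assoc, ← F.zc k]
    group

/-- `z ∈ Pr (C(k))` for noncentral `k` with central square -/
theorem res_of_sq (F : Def.KFacts z) {k : K} (hk : ∃ x, k * x ≠ x * k) (hkk : ∀ x, k * k * x = x * (k * k)) :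
    z ∈ Pr (Ce k) := by
  obtain ⟨x, hx⟩ := hk
  rcases F.cen (k * k) hkk with h | h
  · refine res F h ?_ ?_
    · rintro rfl; exact hx (by group)
    · rintro rfl; exact hx (F.zc x).symm
  · obtain ⟨W, hW, hz, hc⟩ := F.root k h
    exact le_Pr (fun w hw => hc w hw) hW hz

/-- outer involutory automorphisms -/
theorem out (F : Def.KFacts z) {α : MulAut K} (hα : α * α = 1) (ho : ∀ k : K, α ≠ MulAut.conj k) :
    ∃ x ∈ Pr (Fx α), x ≠ 1 ∧ ∃ q : K, α q = q * x := by
  obtain ⟨k, h1, W, hW, hWα, hk⟩ := F.out α (fun x => by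
    rw [← MulAut.mul_apply, hα, MulAut.one_apply]) ho
  refine ⟨(α k * k⁻¹)⁻¹, inv_mem (le_Pr (fun w hw => hWα w hw) hW hk), inv_ne_one.2 h1, k⁻¹, ?_⟩
  rw [map_inv]
  group

theorem outer (F : Def.KFacts z) : Outer z := by
  intro α hα h1 hf
  by_cases ho : ∀ k : K, α ≠ MulAut.conj k
  · exact Or.inr (out F hα ho)
  push Not at ho
  obtain ⟨k, rfl⟩ := ho
  left
  rw [Fx_conj]
  have hkk : ∀ x, k * k * x = x * (k * k) := by
    intro x
    have h2 := DFunLike.congr_fun hα x
    rw [MulAut.mul_apply, MulAut.conj_apply, MulAut.conj_apply, MulAut.one_apply] at h2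
    calc k * k * x = k * (k * x * k⁻¹) * k⁻¹ * (k * k) := by group
      _ = _ := by rw [h2]
  refine res_of_sq F ?_ hkk
  by_contra hx
  push Not at hx
  apply h1
  ext x
  rw [MulAut.conj_apply, MulAut.one_apply, hx x]
  group

theorem kf (F : Def.KFacts z) : KillRow.KF z := ⟨Or.inr (noBad F), outer F⟩

/-! ### The row -/

theorem sch (X : Type u) [Group X] [Finite X] [IsSimpleGroup X] (h : Cut.XG24 X) : Sch X := by
  obtain ⟨F, i1, i2, hF, ⟨e⟩⟩ := h
  have : IsSimpleGroup ↥(Lie.chevG2.group F) := e.symm.isSimpleGroup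
  exact Sch.of_equiv e.symm (Cfsg.Agent.Schreier.Chev.sch_g2 F)

theorem facts {sg : MulAut Cfsg.Agent.StdG24.Mod6.L} (A : KFacts.AutL sg) :
    KillRow.Facts.{u} (fun X _ => Cut.XG24 X) := by
  intro L _ _ hq h2 hX c hc1 hcc hc
  have hp : commutator L = ⊤ := hq.1.commutator_eq_top
  obtain ⟨z, hz, F⟩ := Glue.exists_kfacts h2 hX hp A
  have : c = z := by
    rcases F.cen c hc with h | h
    · exact absurd h hc1
    · exact h
  rw [this]
  exact kf F

/-- **D9, row `2.G₂(4)`.** -/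
theorem row {sg : MulAut Cfsg.Agent.StdG24.Mod6.L} (A : KFacts.AutL sg) :
    Cut.Row.{u} (fun K _ => Cut.Two (fun X _ => Cut.XG24 X) K) :=
  KillRow.row_two (fun X _ _ _ _ h => sch X h) (facts A)

end Cfsg.Agent.OddHalf.D9.G24.Row

end
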